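import Cfsg.Agent.Omega.NOThreeL.RZ.Frame

/-!
# NO-3L, box R: `RR S ≤ O₂(C_G(Z))` (helper601 #23637)

`Y = ⟨P*(S)⟩`, `R = ⟨(R ∩ Z)^Y⟩` invariant under `Y`.  If some `e ∈ Z#` has `e^Y = e^{C_Y(R)}`, then
`R ≤ ⟨Z^{C_G(e)}⟩ ≤ O₂(C_G(e)) ≤ O₂(C_G(Z))`:

* `zl_cent_le` : `⟨Z^{C_G(e)}⟩ ≤ O₂(C_G(Z))` for `e ∈ Z#`;
* `low_of` : the lemma for any group `Y` and any `R`;
* `low_of_par` : `Y = ⟨P*(S)⟩`; the fusion is needed only for the `P ∈ P*(S)` with `C_S(R) ≤ O₂(P)`;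
* `lowRR_of`, `lowRR_of_par` : the case `R = RR S`.
-/

set_option autoImplicit false

namespace Cfsg.Agent.Omega.NOThreeL.RZ.LowR

open Subgroup Cfsg
open Cfsg.Agent.ZN (o2 zc zl)
open Cfsg.Agent.ZN.ChoiceBase hiding mem_zc
open Cfsg.Agent.Omega.MinPar Cfsg.Agent.Omega.Frame Cfsg.Agent.Omega.FrameNOFF
open Cfsg.Agent.Omega.Node.NO3L Cfsg.Agent.Omega.NOThreeL.Basic Cfsg.Agent.Omega.NOThreeL.Main
open Cfsg.Agent.Omega.NO3b.Bang
open Cfsg.Agent.Omega.NOThreeL.Star (YS le_YS S_le_YS)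
open Cfsg.Agent.Omega.NOThreeL.RTree (RB)
open Cfsg.Agent.MinSimple.VModule (zc_le_zl le_normalizer_zl zl_le zc_le mem_zc le_centralizer_zc
  le_normalizer_o2 o2_isPGroup o2_le le_o2)
open scoped Pointwise

universe u

variable {G : Type u} [Group G] [Finite G] {S : Sylow 2 G}

omit [Finite G] in
/-- `C_G(e) ∈ L(S)` for `e ∈ Z#`. -/
theorem isLoc_cent {e : G} (he : e ∈ zc (S : Subgroup G)) (h1 : e ≠ 1) :
    IsLoc (S : Subgroup G) (centralizer ({e} : Set G)) := by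
  have hz := mem_zc.1 he
  refine isLoc_of_le_normalizer S (U := zpowers e) ?_ ?_ ?_ ?_
  · intro s hs
    rw [mem_centralizer_singleton_iff]
    exact hz.2.1 s hs
  · exact S.isPGroup'.to_le (by rw [zpowers_le]; exact hz.1)
  · rwa [Ne, zpowers_eq_bot]
  · rw [← centralizer_closure, ← zpowers_eq_closure]
    exact centralizer_le_normalizer _

/-- `⟨Z^{C_G(e)}⟩ ≤ O₂(C_G(Z))` for `e ∈ Z#`. -/
theorem zl_cent_le (hc : IsCharacteristicTwoType G) {e : G} (he : e ∈ zc (S : Subgroup G)) (h1 : e ≠ 1) :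
    zl (S : Subgroup G) (centralizer ({e} : Set G)) ≤ o2 (CZ (S : Subgroup G)) := by
  have hL := isLoc_cent he h1
  have hle : CZ (S : Subgroup G) ≤ centralizer ({e} : Set G) :=
    centralizer_le (Set.singleton_subset_iff.2 he)
  have h2 : o2 (centralizer ({e} : Set G)) ≤ o2 (CZ (S : Subgroup G)) :=
    le_o2 ((hL.o2_le S).trans (le_CZ S)) (o2_isPGroup _) (hle.trans (le_normalizer_o2 _))
  exact ((hL.zl_le S hc).trans (zc_le _)).trans h2

section gen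

variable {Y R : Subgroup G} {e : G}

/-- `W = ⟨(R ∩ Z)^{C_Y(e)}⟩` -/
def WW (S Y R : Subgroup G) (e : G) : Subgroup G :=
  NoFF.Basic.V (R ⊓ zc S) (Y ⊓ centralizer ({e} : Set G))

omit [Finite G] in
theorem WW_le (hYR : Y ≤ normalizer (R : Set G)) : WW (S : Subgroup G) Y R e ≤ R :=
  V_le_of inf_le_left (inf_le_left.trans hYR)

theorem WW_le_low (hc : IsCharacteristicTwoType G) (he : e ∈ zc (S : Subgroup G)) (h1 : e ≠ 1) :
    WW (S : Subgroup G) Y R e ≤ o2 (CZ (S : Subgroup G)) := by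
  refine le_trans (V_le_of (inf_le_right.trans (zc_le_zl _ _)) ?_) (zl_cent_le hc he h1)
  exact inf_le_right.trans (le_normalizer_zl _ _)

omit [Finite G] in
/-- elements `y = c x` with `c ∈ C_G(R)` and `x ∈ C_Y(e)` normalise `W`. -/
theorem mem_norm_WW (hYR : Y ≤ normalizer (R : Set G)) {y c : G} (hy : y ∈ Y) (hcY : c ∈ Y)
    (hcR : c ∈ centralizer (R : Set G)) (hce : c * e * c⁻¹ = y * e * y⁻¹) :
    y ∈ normalizer (WW (S : Subgroup G) Y R e : Set G) := by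
  have h1 : c⁻¹ * y ∈ Y ⊓ centralizer ({e} : Set G) := by
    refine ⟨Y.mul_mem (Y.inv_mem hcY) hy, ?_⟩
    change c⁻¹ * y ∈ centralizer ({e} : Set G)
    rw [mem_centralizer_singleton_iff]
    calc c⁻¹ * y * e = c⁻¹ * (y * e * y⁻¹) * y := by group
      _ = c⁻¹ * (c * e * c⁻¹) * y := by rw [hce]
      _ = e * (c⁻¹ * y) := by group
  have h2 : c⁻¹ * y ∈ normalizer (WW (S : Subgroup G) Y R e : Set G) := le_norm_V _ _ h1
  have h3 : c ∈ normalizer (WW (S : Subgroup G) Y R e : Set G) :=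
    (centralizer_le (WW_le (S := S) (e := e) hYR)).trans (centralizer_le_normalizer _) hcR
  have h4 := mul_mem h3 h2
  rwa [mul_inv_cancel_left] at h4

/-- **`R ≤ O₂(C_G(Z))` if some `e ∈ Z#` has `e^Y = e^{C_Y(R)}`.** -/
theorem low_of (hc : IsCharacteristicTwoType G) (hYR : Y ≤ normalizer (R : Set G))
    (hg : R ≤ NoFF.Basic.V (R ⊓ zc (S : Subgroup G)) Y) (he : e ∈ zc (S : Subgroup G)) (h1 : e ≠ 1)
    (hf : ∀ y ∈ Y, ∃ c ∈ Y, c ∈ centralizer (R : Set G) ∧ c * e * c⁻¹ = y * e * y⁻¹) :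
    R ≤ o2 (CZ (S : Subgroup G)) := by
  refine le_trans ?_ (WW_le_low (Y := Y) (R := R) hc he h1)
  refine hg.trans (V_le_of (RZ.Z_le _ _) ?_)
  intro y hy
  obtain ⟨c, hcY, hcR, hce⟩ := hf y hy
  exact mem_norm_WW hYR hy hcY hcR hce

end gen

/-- **The same for `Y = ⟨P*(S)⟩`**: only the `P ∈ P*(S)` with `C_S(R) ≤ O₂(P)` matter. -/
theorem low_of_par (hG : Ctx G) (hF : Full (S : Subgroup G)) {R : Subgroup G} {e : G}
    (hYR : YS (S : Subgroup G) ≤ normalizer (R : Set G))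
    (hg : R ≤ NoFF.Basic.V (R ⊓ zc (S : Subgroup G)) (YS (S : Subgroup G))) (he : e ∈ zc (S : Subgroup G))
    (h1 : e ≠ 1)
    (hf : ∀ P, IsParS (S : Subgroup G) P → (S : Subgroup G) ⊓ centralizer (R : Set G) ≤ o2 P → ∀ p ∈ P,
      ∃ c ∈ YS (S : Subgroup G), c ∈ centralizer (R : Set G) ∧ c * e * c⁻¹ = p * e * p⁻¹) :
    R ≤ o2 (CZ (S : Subgroup G)) := by
  refine le_trans ?_ (WW_le_low (Y := YS (S : Subgroup G)) (R := R) hG.char2 he h1)
  refine hg.trans (V_le_of (RZ.Z_le _ _) ?_)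
  have hS : (S : Subgroup G) ≤ normalizer (WW (S : Subgroup G) (YS (S : Subgroup G)) R e : Set G) := by
    refine le_trans (le_inf (S_le_YS hG hF) ?_) (le_norm_V _ _)
    exact (isLoc_cent he h1).le
  refine sSup_le fun P hP => ?_
  have hPY : P ≤ YS (S : Subgroup G) := le_YS hP
  by_cases h2 : (S : Subgroup G) ⊓ centralizer (R : Set G) ≤ o2 P
  · intro p hp
    obtain ⟨c, hcY, hcR, hce⟩ := hf P hP h2 p hp
    exact mem_norm_WW hYR (hPY hp) hcY hcR hce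
  · -- `P = C_P(R) S`
    have hn : P ≤ normalizer ((P ⊓ centralizer (R : Set G) : Subgroup G) : Set G) := by
      intro p hp
      rw [mem_normalizer_iff_cj, cj_inf, cj_centralizer, cj_eq_of_mem_normalizer (le_normalizer hp),
        cj_eq_of_mem_normalizer (hYR (hPY hp))]
    rcases hP.toIsPar.sup_eq_or_inf_le S inf_le_left hn with h3 | h3
    · rw [← h3]
      refine sup_le (inf_le_right.trans ?_) hS
      exact (centralizer_le (WW_le (S := S) (e := e) hYR)).trans (centralizer_le_normalizer _)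
    · exfalso
      refine h2 (le_trans ?_ h3)
      exact le_inf inf_le_left (le_inf (inf_le_left.trans hP.le) inf_le_right)

/-- **`RR S ≤ O₂(C_G(Z))`** -/
theorem lowRR_of (h : RB S) {e : G} (he : e ∈ zc (S : Subgroup G)) (h1 : e ≠ 1)
    (hf : ∀ y ∈ YS (S : Subgroup G), ∃ c ∈ YS (S : Subgroup G), c ∈ centralizer (RR (S : Subgroup G) : Set G) ∧
      c * e * c⁻¹ = y * e * y⁻¹) :
    RR (S : Subgroup G) ≤ o2 (CZ (S : Subgroup G)) :=
  low_of h.ctx.char2 (inv_RR _).ys (inv_RR _).gen he h1 hf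

/-- **`RR S ≤ O₂(C_G(Z))`**, only with the `P ∈ P*(S)` such that `C_S(R) ≤ O₂(P)`. -/
theorem lowRR_of_par (h : RB S) {e : G} (he : e ∈ zc (S : Subgroup G)) (h1 : e ≠ 1)
    (hf : ∀ P, IsParS (S : Subgroup G) P → (S : Subgroup G) ⊓ centralizer (RR (S : Subgroup G) : Set G) ≤ o2 P →
      ∀ p ∈ P, ∃ c ∈ YS (S : Subgroup G), c ∈ centralizer (RR (S : Subgroup G) : Set G) ∧
        c * e * c⁻¹ = p * e * p⁻¹) :
    RR (S : Subgroup G) ≤ o2 (CZ (S : Subgroup G)) :=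
  low_of_par h.ctx h.full (inv_RR _).ys (inv_RR _).gen he h1 hf

end Cfsg.Agent.Omega.NOThreeL.RZ.LowR
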