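import Cfsg.Agent.Omega.NOThreeL.RZ.Trace
import Cfsg.Agent.Omega.NOThreeL.AdjTransv

/-!
# NO-3L, box R, case [R-z]: FACT 1 without blocks (#24309, #24761 (2), (3); the trace: helper241 #24537 (0))

`Y = ⟨P*(S)⟩`, `V* = ⟨Z^Y⟩ = zl S Y`, `L = LL S R`, `D = C_Y(R) = DD S R`, `B = [V*, D] = BB S R`, `V_L = ⟨Z^L⟩ = zl S L`.

* `Frm.nnL` : `V_L ∈ NN(S)`;
* `Frm.ys_eq` : `Y = L D`; `Frm.Vstar_eq_V` : `V* = ⟨V_L^D⟩`;
* `Frm.fixD` : `C_Z(D) = Z₀`;
* `Frm.zc_eq` : `Z = (B ∩ Z) Z₀`; `Frm.Vstar_eq` : `V* = B R`; `Frm.genB` : `B = ⟨(B ∩ Z)^Y⟩`;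
* `Frm.ysB`, `Frm.nSB` : `Y` and `N_G(S)` normalise `B`;
* `Frm.le_LL_of` : a `P ∈ P*(S)` which centralises `B ∩ Z` is `≤ L`;
* `Frm.spl_iff` : `B ∩ R = 1` iff `B ∩ Z₀ = 1`; `cent_of_mul` : then `p ∈ Y` centralises `b r` only if it centralises
  `b` and `r`.
-/

set_option autoImplicit false

namespace Cfsg.Agent.Omega.NOThreeL.RZ

open Subgroup Cfsg
open Cfsg.Agent.ZN (o2 zc zl jj)
open Cfsg.Agent.ZN.ChoiceBase hiding mem_zc
open Cfsg.Agent.Omega.MinPar Cfsg.Agent.Omega.Frame Cfsg.Agent.Omega.FrameNOFF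
open Cfsg.Agent.Omega.Node.NO3L Cfsg.Agent.Omega.NOThreeL.Basic Cfsg.Agent.Omega.NOThreeL.Main
open Cfsg.Agent.Omega.NO3b.EZero (NotFF)
open Cfsg.Agent.Omega.NO3b.Bang
open Cfsg.Agent.Omega.NO1.BestOff (Best exists_best)
open Cfsg.Agent.Omega.NOThreeL.Star (YS le_YS S_le_YS zl_mono)
open Cfsg.Agent.MinSimple.VModule (zc_le_zl le_normalizer_zl zl_le zc_le mem_zc le_centralizer_zc zc_sq
  le_normalizer_o2 o2_isPGroup o2_le le_o2 normalizer_le_normalizer_zc)
open scoped Pointwise commutatorElement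

universe u

variable {G : Type u} [Group G]

/-- `D = C_Y(R)` -/
def DD (S R : Subgroup G) : Subgroup G := YS S ⊓ centralizer (R : Set G)

/-- `B = [V*, C_Y(R)]` -/
def BB (S R : Subgroup G) : Subgroup G := ⁅zl S (YS S), DD S R⁆

theorem norm_cent {X R : Subgroup G} (h : X ≤ normalizer (R : Set G)) :
    X ≤ normalizer ((centralizer (R : Set G) : Subgroup G) : Set G) := by
  intro x hx
  rw [mem_normalizer_iff_cj, cj_centralizer, cj_eq_of_mem_normalizer (h hx)]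

theorem norm_V_of {Z P X : Subgroup G} (h1 : X ≤ normalizer (Z : Set G)) (h2 : X ≤ normalizer (P : Set G)) :
    X ≤ normalizer (NoFF.Basic.V Z P : Set G) := by
  have key : ∀ x ∈ X, cj x (NoFF.Basic.V Z P) ≤ NoFF.Basic.V Z P := by
    intro x hx
    refine NoFF.Basic.conj_V_le fun p hp => ?_
    have e : MulAut.conj (x * p) • Z = MulAut.conj (x * p * x⁻¹) • cj x Z := by
      change _ = MulAut.conj (x * p * x⁻¹) • (MulAut.conj x • Z)
      rw [NoFF.Basic.conj_conj]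
      congr 1
      group
    rw [e, cj_eq_of_mem_normalizer (h1 hx)]
    exact NoFF.Basic.Z_le_V ((mem_normalizer_iff.1 (h2 hx) p).1 hp)
  intro x hx
  rw [mem_normalizer_iff_cj]
  refine le_antisymm (key x hx) ?_
  have h3 := cj_mono x (key x⁻¹ (inv_mem hx))
  rwa [cj_cj_inv] at h3

theorem norm_commutator_of {A B X : Subgroup G} (h1 : X ≤ normalizer (A : Set G)) (h2 : X ≤ normalizer (B : Set G)) :
    X ≤ normalizer ((⁅A, B⁆ : Subgroup G) : Set G) := by
  intro x hx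
  rw [mem_normalizer_iff_cj]
  have e1 := cj_eq_of_mem_normalizer (h1 hx)
  have e2 := cj_eq_of_mem_normalizer (h2 hx)
  change (⁅A, B⁆ : Subgroup G).map (MulAut.conj x).toMonoidHom = _
  rw [Subgroup.map_commutator]
  change ⁅cj x A, cj x B⁆ = _
  rw [e1, e2]

namespace Frm

variable [Finite G] {S : Sylow 2 G} {Z₀ R : Subgroup G} (h : Frm S Z₀ R)
include h

/-! ### `V*` -/

theorem VsC : zl (S : Subgroup G) (YS S) ≤ centralizer (zl (S : Subgroup G) (YS S) : Set G) :=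
  Star.zl_comm h.ctx.char2 h.data.noff

theorem VsSq : ∀ v ∈ zl (S : Subgroup G) (YS S), v ^ 2 = 1 := Star.zl_sq h.ctx.char2 h.data.noff

theorem VsP : IsPGroup 2 (zl (S : Subgroup G) (YS S)) := fun x => ⟨1, Subtype.ext (by simpa using h.VsSq x x.2)⟩

theorem VsS : zl (S : Subgroup G) (YS S) ≤ (S : Subgroup G) :=
  le_of_le_normalizer S h.VsP (h.S_le_ys.trans (le_normalizer_zl _ _))

theorem VsFix {v : G} (hv : v ∈ zl (S : Subgroup G) (YS S)) (hs : ∀ s ∈ (S : Subgroup G), s * v = v * s) :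
    v ∈ zc (S : Subgroup G) := mem_zc.2 ⟨h.VsS hv, hs, h.VsSq v hv⟩

/-! ### `V_L ∈ NN(S)` -/

omit h [Finite G] in
theorem VL_le : zl (S : Subgroup G) (LL (S : Subgroup G) R) ≤ zl (S : Subgroup G) (YS S) :=
  Star.zl_mono _ LL_le_ys

theorem R_le_VL : R ≤ zl (S : Subgroup G) (LL (S : Subgroup G) R) := by
  conv_lhs => rw [← h.V_LL]
  exact V_le_of (h.Z_le_zc.trans (zc_le_zl _ _)) (le_normalizer_zl _ _)

/-- `C_S(R)` centralises `V_L = ⟨Z^L⟩`. -/
theorem cs_cent : (S : Subgroup G) ⊓ centralizer (R : Set G) ≤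
    centralizer (zl (S : Subgroup G) (LL (S : Subgroup G) R) : Set G) := by
  apply cent_symm
  refine zl_le ?_ (norm_cent h.LL_cs)
  intro z hz
  rw [mem_centralizer_iff]
  intro s hs
  exact (mem_zc.1 hz).2.1 s hs.1

/-- **`V_L ∈ NN(S)`** -/
theorem nnL : NN (S : Subgroup G) (zl (S : Subgroup G) (LL (S : Subgroup G) R)) := by
  refine ⟨VL_le.trans h.VsS, h.S_le_LL.trans (le_normalizer_zl _ _),
    VL_le.trans (h.VsC.trans (centralizer_le VL_le)), fun v hv => h.VsSq v (VL_le hv), fun A hA ho => ?_⟩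
  obtain ⟨X, hXA, hb, hne⟩ := exists_best ho
  have h1 : X ≤ centralizer (R : Set G) := h.nn.best (hXA.trans hA) h.R_le_VL hb
  exact hne ((le_inf (hXA.trans hA) h1).trans h.cs_cent)

/-! ### `Y = L D` -/

theorem ysD : YS (S : Subgroup G) ≤ normalizer (DD (S : Subgroup G) R : Set G) := by
  intro y hy
  rw [mem_normalizer_iff_cj, DD, cj_inf, cj_eq_of_mem_normalizer (le_normalizer hy), cj_centralizer,
    cj_eq_of_mem_normalizer (h.ys hy)]

omit h [Finite G] in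
theorem DD_le : DD (S : Subgroup G) R ≤ YS S := inf_le_left

omit h [Finite G] in
theorem DD_cent : DD (S : Subgroup G) R ≤ centralizer (R : Set G) := inf_le_right

/-- **`Y = L D`** -/
theorem ys_eq : YS (S : Subgroup G) = LL (S : Subgroup G) R ⊔ DD (S : Subgroup G) R := by
  apply le_antisymm
  · refine sSup_le fun P hP => ?_
    by_cases h1 : (S : Subgroup G) ⊓ centralizer (R : Set G) ≤ o2 P
    · exact le_trans (show P ≤ LL (S : Subgroup G) R from le_sSup ⟨hP, h1⟩) le_sup_left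
    · rw [← h.act_of hP h1]
      exact sup_le ((le_inf (inf_le_left.trans (le_YS hP)) inf_le_right).trans le_sup_right)
        (h.S_le_LL.trans le_sup_left)
  · exact sup_le LL_le_ys inf_le_left

/-- **`V* = ⟨V_L^D⟩`** -/
theorem Vstar_eq_V : zl (S : Subgroup G) (YS S) =
    NoFF.Basic.V (zl (S : Subgroup G) (LL (S : Subgroup G) R)) (DD (S : Subgroup G) R) := by
  apply le_antisymm
  · refine zl_le ((zc_le_zl _ _).trans (RZ.Z_le _ _)) ?_
    rw [h.ys_eq]
    exact sup_le (norm_V_of (le_normalizer_zl _ _) (LL_le_ys.trans h.ysD)) (le_norm_V _ _)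
  · exact V_le_of VL_le (inf_le_left.trans (le_normalizer_zl _ _))

/-! ### `C_Z(D) = Z₀` -/

/-- **`C_Z(C_Y(R)) = Z₀`** -/
theorem fixD : zc (S : Subgroup G) ⊓ centralizer (DD (S : Subgroup G) R : Set G) = Z₀ := by
  set Zp : Subgroup G := zc (S : Subgroup G) ⊓ centralizer (DD (S : Subgroup G) R : Set G) with hZp
  have h0 : Z₀ ≤ Zp := le_inf h.Z_le_zc (h.Z_le.trans (cent_symm DD_cent))
  set W : Subgroup G := NoFF.Basic.V Zp (YS (S : Subgroup G)) with hW
  have hRW : R ≤ W := by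
    conv_lhs => rw [h.gen]
    exact V_mono h0 le_rfl
  have hWzl : W ≤ zl (S : Subgroup G) (YS S) :=
    V_le_of (inf_le_left.trans (zc_le_zl _ _)) (le_normalizer_zl _ _)
  have hYW : YS (S : Subgroup G) ≤ normalizer (W : Set G) := le_norm_V _ _
  have hcW : DD (S : Subgroup G) R ≤ centralizer (W : Set G) := by
    apply cent_symm
    exact V_le_of inf_le_right (norm_cent h.ysD)
  have hI : Inv (S : Subgroup G) W := by
    refine ⟨⟨hWzl.trans h.VsS, h.S_le_ys.trans hYW, hWzl.trans (h.VsC.trans (centralizer_le hWzl)),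
      fun v hv => h.VsSq v (hWzl hv), fun A hA ho => ?_⟩, hYW, ?_⟩
    · obtain ⟨X, hXA, hb, hne⟩ := exists_best ho
      refine hne (le_trans (le_inf ?_ (h.nn.best (hXA.trans hA) hRW hb)) hcW)
      exact (hXA.trans hA).trans h.S_le_ys
    · exact V_mono (le_inf (RZ.Z_le _ _) inf_le_left) le_rfl
  have h1 : W ≤ R := by
    have := hI.le_RR
    rwa [← h.eqR] at this
  refine le_antisymm ?_ h0
  rw [h.eq]
  exact le_inf ((RZ.Z_le _ _).trans h1) inf_le_left

/-! ### `V* = B R` -/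

omit h [Finite G] in
theorem BB_le : BB (S : Subgroup G) R ≤ zl (S : Subgroup G) (YS S) :=
  by
  rw [BB, commutator_le]
  intro v hv d hd
  have e : ⁅v, d⁆ = v * (d * v⁻¹ * d⁻¹) := by rw [commutatorElement_def]; group
  rw [e]
  exact mul_mem hv ((mem_normalizer_iff.1 (le_normalizer_zl _ _ (DD_le hd)) _).1 (Subgroup.inv_mem _ hv))

theorem ysB : YS (S : Subgroup G) ≤ normalizer (BB (S : Subgroup G) R : Set G) :=
  norm_commutator_of (le_normalizer_zl _ _) h.ysD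

/-- for `z ∈ Z` there is `t ∈ Z₀` with `z⁻¹ t ∈ B` -/
theorem exists_tr {z : G} (hz : z ∈ zc (S : Subgroup G)) : ∃ t ∈ Z₀, z⁻¹ * t ∈ BB (S : Subgroup G) R := by
  have hzV : z ∈ zl (S : Subgroup G) (YS S) := zc_le_zl _ _ hz
  have hXn : DD (S : Subgroup G) R ⊔ (S : Subgroup G) ≤ YS (S : Subgroup G) := sup_le DD_le h.S_le_ys
  obtain ⟨t, htV, hfix, hB⟩ := Trace.trace (V := zl (S : Subgroup G) (YS S))
    (X := DD (S : Subgroup G) R ⊔ (S : Subgroup G)) (S := (S : Subgroup G)) (B := BB (S : Subgroup G) R)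
    (hXn.trans (le_normalizer_zl _ _)) h.VsC h.VsSq (Trace.odd_relIndex S le_sup_right) hzV
    (fun s hs => (mem_zc.1 hz).2.1 s hs) (by
      intro x hx
      have hx' : x ∈ (DD (S : Subgroup G) R : Set G) * ((S : Subgroup G) : Set G) := by
        have h5 := Subgroup.coe_mul_of_right_le_normalizer_left (DD (S : Subgroup G) R) (S : Subgroup G)
          (h.S_le_ys.trans h.ysD)
        rw [← h5] at *
        exact hx
      obtain ⟨d, hd, s, hs, rfl⟩ := hx'
      have e1 : s * z = z * s := (mem_zc.1 hz).2.1 s hs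
      have e : d * s * z * (d * s)⁻¹ * z⁻¹ = (z * (d * z⁻¹ * d⁻¹))⁻¹ := by
        calc d * s * z * (d * s)⁻¹ * z⁻¹ = d * (s * z) * s⁻¹ * d⁻¹ * z⁻¹ := by group
          _ = d * (z * s) * s⁻¹ * d⁻¹ * z⁻¹ := by rw [e1]
          _ = (z * (d * z⁻¹ * d⁻¹))⁻¹ := by group
      change d * s * z * (d * s)⁻¹ * z⁻¹ ∈ _
      rw [e]
      refine inv_mem ?_
      have h3 : ⁅z, d⁆ ∈ BB (S : Subgroup G) R := commutator_mem_commutator hzV hd
      have e3 : ⁅z, d⁆ = z * (d * z⁻¹ * d⁻¹) := by rw [commutatorElement_def]; group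
      rwa [e3] at h3)
  refine ⟨t, ?_, hB⟩
  rw [← h.fixD]
  have hc : ∀ x ∈ DD (S : Subgroup G) R ⊔ (S : Subgroup G), x * t = t * x := fun x hx =>
    mul_inv_eq_iff_eq_mul.1 (hfix x hx)
  refine ⟨h.VsFix htV fun s hs => hc s (le_sup_right (a := DD (S : Subgroup G) R) hs), ?_⟩
  exact mem_centralizer_iff.2 fun d hd => hc d (le_sup_left (b := (S : Subgroup G)) hd)

/-- **`Z = (B ∩ Z) Z₀`** -/
theorem zc_eq : zc (S : Subgroup G) = (BB (S : Subgroup G) R ⊓ zc (S : Subgroup G)) ⊔ Z₀ := by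
  apply le_antisymm
  · intro z hz
    obtain ⟨t, ht, hB⟩ := h.exists_tr hz
    have h1 : z⁻¹ * t ∈ BB (S : Subgroup G) R ⊓ zc (S : Subgroup G) :=
      ⟨hB, mul_mem (Subgroup.inv_mem _ hz) (h.Z_le_zc ht)⟩
    have e : z = t * (z⁻¹ * t)⁻¹ := by group
    rw [e]
    exact mul_mem (mem_sup_right ht) (mem_sup_left (inv_mem h1))
  · exact sup_le inf_le_right h.Z_le_zc

/-- **`V* = B R`** -/
theorem Vstar_eq : zl (S : Subgroup G) (YS S) = BB (S : Subgroup G) R ⊔ R := by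
  apply le_antisymm
  · refine zl_le ?_ (le_normalizer_sup h.ysB h.ys)
    rw [h.zc_eq]
    exact sup_le_sup inf_le_left h.Z_le
  · exact sup_le BB_le h.le_zl

/-- **`B = ⟨(B ∩ Z)^Y⟩`** -/
theorem genB : BB (S : Subgroup G) R =
    NoFF.Basic.V (BB (S : Subgroup G) R ⊓ zc (S : Subgroup G)) (YS (S : Subgroup G)) := by
  set B' : Subgroup G := NoFF.Basic.V (BB (S : Subgroup G) R ⊓ zc (S : Subgroup G)) (YS (S : Subgroup G)) with hB'
  have h1 : YS (S : Subgroup G) ≤ normalizer (B' : Set G) := le_norm_V _ _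
  have hB'V : B' ≤ zl (S : Subgroup G) (YS S) :=
    V_le_of (inf_le_right.trans (zc_le_zl _ _)) (le_normalizer_zl _ _)
  apply le_antisymm
  · have h2 : zl (S : Subgroup G) (YS S) ≤ B' ⊔ R := by
      refine zl_le ?_ (le_normalizer_sup h1 h.ys)
      conv_lhs => rw [h.zc_eq]
      exact sup_le_sup (RZ.Z_le _ _) h.Z_le
    have hc : R ≤ centralizer (B' : Set G) := (h.le_zl.trans h.VsC).trans (centralizer_le hB'V)
    rw [BB, commutator_le]
    intro v hv d hd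
    have hv' : v ∈ (B' : Set G) * (R : Set G) := by
      rw [← Cfsg.Agent.PLocal.ElemAbSup.coe_sup_of_le_centralizer hc]
      exact h2 hv
    obtain ⟨b, hb, r, hr, rfl⟩ := hv'
    have e1 : r * d = d * r := (mem_centralizer_iff.1 (DD_cent hd) r hr)
    have e : ⁅b * r, d⁆ = b * (d * b⁻¹ * d⁻¹) := by
      rw [commutatorElement_def]
      calc b * r * d * (b * r)⁻¹ * d⁻¹ = b * (r * d) * r⁻¹ * b⁻¹ * d⁻¹ := by group
        _ = b * (d * r) * r⁻¹ * b⁻¹ * d⁻¹ := by rw [e1]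
        _ = b * (d * b⁻¹ * d⁻¹) := by group
    change ⁅b * r, d⁆ ∈ B'
    rw [e]
    exact mul_mem hb ((mem_normalizer_iff.1 (h1 (DD_le hd)) _).1 (inv_mem hb))
  · exact V_le_of inf_le_left h.ysB

omit h [Finite G] in
/-- `N_G(S)` normalises `⟨P*(S)⟩`. -/
theorem nS_ys : normalizer ((S : Subgroup G) : Set G) ≤ normalizer (YS (S : Subgroup G) : Set G) := by
  have h1 : ∀ n ∈ normalizer ((S : Subgroup G) : Set G), cj n (YS (S : Subgroup G)) ≤ YS (S : Subgroup G) := by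
    intro n hn
    rw [cj, map_le_iff_le_comap]
    refine sSup_le fun P hP => ?_
    rw [← map_le_iff_le_comap]
    exact le_YS ((FrameNOFF.inv S).nF n hn P hP)
  intro n hn
  rw [mem_normalizer_iff_cj]
  refine le_antisymm (h1 n hn) ?_
  have h2 := cj_mono n (h1 n⁻¹ (inv_mem hn))
  rwa [cj_cj_inv] at h2

omit h [Finite G] in
theorem nS_Vs : normalizer ((S : Subgroup G) : Set G) ≤ normalizer (zl (S : Subgroup G) (YS S) : Set G) :=
  norm_V_of (normalizer_le_normalizer_zc _) nS_ys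

theorem nSD : normalizer ((S : Subgroup G) : Set G) ≤ normalizer (DD (S : Subgroup G) R : Set G) := by
  intro n hn
  rw [mem_normalizer_iff_cj, DD, cj_inf, cj_eq_of_mem_normalizer (nS_ys hn), cj_centralizer,
    cj_eq_of_mem_normalizer (h.nS hn)]

/-- `N_G(S) ≤ N_G(B)` -/
theorem nSB : normalizer ((S : Subgroup G) : Set G) ≤ normalizer (BB (S : Subgroup G) R : Set G) :=
  norm_commutator_of nS_Vs h.nSD

/-- A `P ∈ P*(S)` which centralises `B ∩ Z` lies in `L`. -/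
theorem le_LL_of {P : Subgroup G} (hP : IsParS (S : Subgroup G) P)
    (h1 : P ≤ centralizer ((BB (S : Subgroup G) R ⊓ zc (S : Subgroup G) : Subgroup G) : Set G)) :
    (S : Subgroup G) ⊓ centralizer (R : Set G) ≤ o2 P := by
  by_contra h2
  have h3 := h.cent_of hP h2
  refine hP.not_zc ?_
  have h4 : zc (S : Subgroup G) ≤ centralizer (P : Set G) := by
    rw [h.zc_eq]
    exact sup_le (cent_symm h1) (cent_symm h3)
  exact (cent_symm h4).trans (centralizer_le_normalizer _)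

/-- `B ∩ R = 1` iff `B ∩ Z₀ = 1`. -/
theorem spl_iff : BB (S : Subgroup G) R ⊓ R = ⊥ ↔ BB (S : Subgroup G) R ⊓ Z₀ = ⊥ := by
  constructor
  · intro h1
    exact le_bot_iff.1 (h1 ▸ inf_le_inf_left _ h.Z_le)
  · intro h1
    by_contra hne
    have hn : (S : Subgroup G) ≤ normalizer ((BB (S : Subgroup G) R ⊓ R : Subgroup G) : Set G) := by
      intro s hs
      rw [mem_normalizer_iff_cj, cj_inf, cj_eq_of_mem_normalizer (h.ysB (h.S_le_ys hs)),
        cj_eq_of_mem_normalizer (h.S_le hs)]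
    obtain ⟨z, hz, hz1, hzT⟩ := NOThreeL.AdjTransv.exists_fixed S.isPGroup' hne
      (fun n hn => by rw [← pow_two]; exact h.nn.sq n hn.2) fun s hs n hn' => (mem_normalizer_iff.1 (hn hs) n).1 hn'
    have h2 : z ∈ Z₀ := h.fix hz.2 fun s hs => (mul_inv_eq_iff_eq_mul.1 (hzT s hs)).symm
    have h3 : z ∈ BB (S : Subgroup G) R ⊓ Z₀ := ⟨hz.1, h2⟩
    rw [h1, mem_bot] at h3
    exact hz1 h3

/-- (*) -/
theorem cent_of_mul (hs : BB (S : Subgroup G) R ⊓ R = ⊥) {p b r : G} (hp : p ∈ YS (S : Subgroup G))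
    (hb : b ∈ BB (S : Subgroup G) R) (hr : r ∈ R) (hpb : p * (b * r) = b * r * p) :
    p * b = b * p ∧ p * r = r * p := by
  have h1 : p * b * p⁻¹ ∈ BB (S : Subgroup G) R := (mem_normalizer_iff.1 (h.ysB hp) b).1 hb
  have h2 : p * r * p⁻¹ ∈ R := (mem_normalizer_iff.1 (h.ys hp) r).1 hr
  have e : b⁻¹ * (p * b * p⁻¹) = r * (p * r * p⁻¹)⁻¹ := by
    have e1 : p * b * p⁻¹ * (p * r * p⁻¹) = b * r := by
      calc p * b * p⁻¹ * (p * r * p⁻¹) = p * (b * r) * p⁻¹ := by group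
        _ = b * r * p * p⁻¹ := by rw [hpb]
        _ = b * r := by group
    calc b⁻¹ * (p * b * p⁻¹) = b⁻¹ * (p * b * p⁻¹ * (p * r * p⁻¹)) * (p * r * p⁻¹)⁻¹ := by group
      _ = b⁻¹ * (b * r) * (p * r * p⁻¹)⁻¹ := by rw [e1]
      _ = r * (p * r * p⁻¹)⁻¹ := by group
  have h3 : b⁻¹ * (p * b * p⁻¹) ∈ BB (S : Subgroup G) R ⊓ R :=
    ⟨mul_mem (Subgroup.inv_mem _ hb) h1, by rw [e]; exact mul_mem hr (Subgroup.inv_mem _ h2)⟩
  rw [hs, mem_bot] at h3
  have h4 : p * b * p⁻¹ = b := (inv_mul_eq_one.1 h3).symm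
  have h5 : p * r * p⁻¹ = r := by
    rw [h3] at e
    exact (mul_inv_eq_one.1 e.symm).symm
  exact ⟨mul_inv_eq_iff_eq_mul.1 h4, mul_inv_eq_iff_eq_mul.1 h5⟩

end Frm

end Cfsg.Agent.Omega.NOThreeL.RZ
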