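import Cfsg.Agent.Omega.NOThreeL.RTree

/-!
# NO-3L, box R, case [R-z]: the frame (helper133 #20590, #21097; helper260 #20664)

`S` a Sylow 2-subgroup, `Z = Ω₁(Z(S))`, `Y = ⟨P*(S)⟩`, `V^!(S) = bang S` the largest member of `NN(S)`.

* `Inv S W` : `W ∈ NN(S)`, `Y ≤ N_G(W)`, `W = ⟨(W ∩ Z)^Y⟩`;
* `RR S` : the largest such group, `inv_RR`, `Inv.le_RR`;
* `Frm S Z₀ R` : the frame, `R = RR S ≠ 1`, `Z₀ = R ∩ Z`, `R ≤ Q`; `frm_of` (`R ≤ Q` is `RLow.rr_le`);
* `Frm.fix` : `C_R(S) = Z₀`;  `Frm.fixY` : `C_Z(C_G(R)) = Z₀`;  `Frm.nS` : `N_G(S) ≤ N_G(R) ∩ N_G(Z₀)`;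
* `Frm.norm_of` : `P ∈ P*(S)` and `C_S(R) ≤ O₂(P)` imply `P ≤ N_G(V^!(S))`;  `Frm.act_of`, `Frm.cent_of` :
  otherwise `P = C_P(R) S`, `P ≤ C_G(Z₀)`;
* `Frm.nonLoc` : `⟨N_G(R), C_G(Z₀)⟩` is nonlocal;  `Frm.nonLocL` : so is `⟨L, C_G(Z₀)⟩`, `L = LL S R` generated by the
  `P ∈ P*(S)` with `C_S(R) ≤ O₂(P)`;  `Frm.LL_cs`, `Frm.V_LL` : `C_S(R)` is normal in `L`, `R = ⟨Z₀^L⟩`;
* `Frm.cN` : `C_R(N_G(R)) = 1`;  `Frm.flag` : `C_G(Z) ≰ N_G(R)`;  `Frm.O2` : a 2-group which is normal in `N_G(R)`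
  modulo `C_G(R)` centralises `R`;  `Frm.norm_bang` : `N_G(T₁) ≤ N_G(V^!(S))` for `C_S(R) ≤ T₁ ≤ S`;
* `RBr K`, `RBn K` : the two sockets `RR S ≠ 1`, `RR S = 1`; `rbc_of` : `RBn K` implies `RTree.RBc K`; `rb_of`,
  `rg_of`.
-/

set_option autoImplicit false

namespace Cfsg.Agent.Omega.NOThreeL.RZ

open Subgroup Cfsg
open Cfsg.Agent.ZN (o2 zc zl jj)
open Cfsg.Agent.ZN.ChoiceBase hiding mem_zc
open Cfsg.Agent.Omega.MinPar Cfsg.Agent.Omega.Frame Cfsg.Agent.Omega.FrameNOFF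
open Cfsg.Agent.Omega.Node.NO3L Cfsg.Agent.Omega.NOThreeL.Basic Cfsg.Agent.Omega.NOThreeL.Main
open Cfsg.Agent.Omega.NO3b.EZero (NotFF)
open Cfsg.Agent.Omega.NO3b.Bang
open Cfsg.Agent.Omega.NO1.BestOff (Best exists_best)
open Cfsg.Agent.Omega.NOThreeL.Star (YS le_YS S_le_YS zl_mono)
open Cfsg.Agent.Omega.NOThreeL.RTree (RB)
open Cfsg.Agent.Omega.NOThreeL.ZCut (FZ)
open Cfsg.Agent.MinSimple.VModule (zc_le_zl le_normalizer_zl zl_le zc_le mem_zc le_centralizer_zc zc_sq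
  le_normalizer_o2 o2_isPGroup o2_le le_o2 normalizer_le_normalizer_zc)
open scoped Pointwise

universe u

variable {G : Type u} [Group G]

/-! ### `⟨Z₀^Y⟩` -/

theorem V_mono {Z Z' P P' : Subgroup G} (hZ : Z ≤ Z') (hP : P ≤ P') : NoFF.Basic.V Z P ≤ NoFF.Basic.V Z' P' :=
  NoFF.Basic.V_le fun _ hp => (Subgroup.pointwise_smul_le_pointwise_smul_iff.2 hZ).trans (NoFF.Basic.Z_le_V (hP hp))

theorem Z_le (Z P : Subgroup G) : Z ≤ NoFF.Basic.V Z P := by
  have := NoFF.Basic.Z_le_V (Z := Z) (one_mem P)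
  rwa [map_one, one_smul] at this

theorem le_norm_V (Z P : Subgroup G) : P ≤ normalizer (NoFF.Basic.V Z P : Set G) := by
  intro p hp
  rw [mem_normalizer_iff_cj]
  have := NoFF.Basic.conj_V_mul (Z := Z) (P := P) (g := 1) hp
  rw [one_mul, map_one, one_smul] at this
  exact this

theorem V_le_of {Z P W : Subgroup G} (hZ : Z ≤ W) (hP : P ≤ normalizer (W : Set G)) : NoFF.Basic.V Z P ≤ W := by
  refine NoFF.Basic.V_le fun p hp => ?_
  have h1 : MulAut.conj p • W = W := mem_normalizer_iff_cj.1 (hP hp)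
  rw [← h1]
  exact Subgroup.pointwise_smul_le_pointwise_smul_iff.2 hZ

/-! ### `Y`-invariant members of `NN(S)` -/

/-- a `⟨P*(S)⟩`-invariant member of `NN(S)` which is generated by the conjugates of its part of `Z` -/
structure Inv (S W : Subgroup G) : Prop where
  nn : NN S W
  ys : YS S ≤ normalizer (W : Set G)
  gen : W ≤ NoFF.Basic.V (W ⊓ zc S) (YS S)

/-- the largest one -/
def RR (S : Subgroup G) : Subgroup G := sSup {W | Inv S W}

theorem Inv.le_RR {S W : Subgroup G} (h : Inv S W) : W ≤ RR S := le_sSup h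

theorem Inv.bot (S : Subgroup G) : Inv S (⊥ : Subgroup G) where
  nn := NN.bot S
  ys := by
    intro t _
    rw [mem_normalizer_iff_cj]
    exact Subgroup.map_bot _
  gen := bot_le

theorem Inv.le_zl {S W : Subgroup G} (h : Inv S W) : W ≤ zl S (YS S) :=
  h.gen.trans (V_le_of (inf_le_right.trans (zc_le_zl S (YS S))) (le_normalizer_zl S (YS S)))

theorem Inv.sup [Finite G] {S V W : Subgroup G} (hV : Inv S V) (hW : Inv S W) : Inv S (V ⊔ W) where
  nn := hV.nn.sup hW.nn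
  ys := le_normalizer_sup hV.ys hW.ys
  gen := sup_le (hV.gen.trans (V_mono (inf_le_inf_right _ le_sup_left) le_rfl))
    (hW.gen.trans (V_mono (inf_le_inf_right _ le_sup_right) le_rfl))

theorem inv_RR [Finite G] (S : Subgroup G) : Inv S (RR S) := by
  obtain ⟨V, hV, hmax⟩ := Set.exists_max_image {V : Subgroup G | Inv S V}
    (fun V => Nat.card V) (Set.toFinite _) ⟨⊥, Inv.bot S⟩
  have h1 : RR S = V := by
    refine le_antisymm (sSup_le fun W hW => ?_) (Inv.le_RR hV)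
    have h2 := hmax _ (Inv.sup hV hW)
    have h3 : V ⊔ W = V := (Subgroup.eq_of_le_of_card_ge le_sup_left h2).symm
    exact le_sup_right.trans h3.le
  rw [h1]
  exact hV

/-- `L = ⟨P ∈ P*(S) : C_S(R) ≤ O₂(P)⟩` -/
def LL (S R : Subgroup G) : Subgroup G :=
  sSup {P | IsParS S P ∧ S ⊓ centralizer (R : Set G) ≤ o2 P}

/-- **The frame of [R-z].** -/
structure Frm [Finite G] (S : Sylow 2 G) (Z₀ R : Subgroup G) : Prop where
  ctx : Ctx G
  full : Full (S : Subgroup G)
  data : Data (S : Subgroup G)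
  notA : ¬ CaseA (S : Subgroup G)
  /-- `R ≤ Q` (a theorem: `RLow.rr_le`) -/
  low : R ≤ o2 (CZ (S : Subgroup G))
  eq : Z₀ = R ⊓ zc (S : Subgroup G)
  eqR : R = RR (S : Subgroup G)
  ne : R ≠ ⊥

section fin

variable [Finite G] {S : Sylow 2 G}

theorem frm_of (h : RB S) (low : RR (S : Subgroup G) ≤ o2 (CZ (S : Subgroup G)))
    (hR : RR (S : Subgroup G) ≠ ⊥) : Frm S (RR (S : Subgroup G) ⊓ zc (S : Subgroup G)) (RR (S : Subgroup G)) :=
  ⟨h.ctx, h.full, h.data, h.notA, low, rfl, rfl, hR⟩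

namespace Frm

variable {Z₀ R : Subgroup G} (h : Frm S Z₀ R)
include h

theorem inv : Inv (S : Subgroup G) R := by
  rw [h.eqR]
  exact inv_RR _

theorem nn : NN (S : Subgroup G) R := h.inv.nn

theorem Z_le : Z₀ ≤ R := h.eq.le.trans inf_le_left

theorem Z_le_zc : Z₀ ≤ zc (S : Subgroup G) := h.eq.le.trans inf_le_right

/-- `Y ≤ N_G(R)` -/
theorem ys : YS (S : Subgroup G) ≤ normalizer (R : Set G) := h.inv.ys

theorem par {P : Subgroup G} (hP : IsParS (S : Subgroup G) P) : P ≤ normalizer (R : Set G) := (le_YS hP).trans h.ys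

theorem S_le_ys : (S : Subgroup G) ≤ YS (S : Subgroup G) := S_le_YS h.ctx h.full

theorem S_le : (S : Subgroup G) ≤ normalizer (R : Set G) := h.S_le_ys.trans h.ys

/-- `R = ⟨Z₀^Y⟩` -/
theorem gen : R = NoFF.Basic.V Z₀ (YS (S : Subgroup G)) := by
  apply le_antisymm
  · have := h.inv.gen
    rwa [← h.eq] at this
  · exact V_le_of h.Z_le h.ys

/-- `R = ⟨Z₀^{N_G(R)}⟩` -/
theorem genN : R = NoFF.Basic.V Z₀ (normalizer (R : Set G)) := by
  apply le_antisymm
  · conv_lhs => rw [h.gen]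
    exact V_mono le_rfl h.ys
  · exact V_le_of h.Z_le le_rfl

theorem R_le : R ≤ (S : Subgroup G) := h.nn.le

theorem pg : IsPGroup 2 R := S.isPGroup'.to_le h.R_le

/-- `C_R(S) = Z₀` -/
theorem fix {v : G} (hv : v ∈ R) (hs : ∀ s ∈ (S : Subgroup G), v * s = s * v) : v ∈ Z₀ := by
  rw [h.eq]
  exact ⟨hv, mem_zc.2 ⟨h.R_le hv, fun s hs' => (hs s hs').symm, h.nn.sq v hv⟩⟩

theorem Z_ne : Z₀ ≠ ⊥ := by
  intro h0
  have h1 : R = ⊥ := by
    rw [h.gen, h0, eq_bot_iff]
    refine NoFF.Basic.V_le fun p _ => ?_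
    rw [show MulAut.conj p • (⊥ : Subgroup G) = ⊥ from Subgroup.map_bot _]
  exact h.ne h1

theorem le_zl : R ≤ zl (S : Subgroup G) (YS S) := h.inv.le_zl

/-- `R ≤ Q = O₂(C_G(Z))` -/
theorem lowR : R ≤ o2 (CZ (S : Subgroup G)) := h.low

theorem le_bang : R ≤ bang (S : Subgroup G) := h.nn.le_bang

/-- `Y` normalises `C_G(R)` -/
theorem ys_cent : YS (S : Subgroup G) ≤ normalizer ((centralizer (R : Set G) : Subgroup G) : Set G) := by
  intro y hy
  rw [mem_normalizer_iff_cj, cj_centralizer, cj_eq_of_mem_normalizer (h.ys hy)]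

/-- **`C_Z(C_G(R)) = Z₀`** -/
theorem fixY : zc (S : Subgroup G) ⊓ centralizer ((centralizer (R : Set G) : Subgroup G) : Set G) = Z₀ := by
  set Zp : Subgroup G := zc (S : Subgroup G) ⊓ centralizer ((centralizer (R : Set G) : Subgroup G) : Set G) with hZp
  have hm := h.data.noff
  have hc := h.ctx.char2
  have h0 : Z₀ ≤ Zp := le_inf h.Z_le_zc (h.Z_le.trans (by
    intro r hr
    rw [mem_centralizer_iff]
    intro c hc'
    exact (mem_centralizer_iff.1 hc' r hr).symm))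
  set W : Subgroup G := NoFF.Basic.V Zp (YS (S : Subgroup G)) with hW
  have hRW : R ≤ W := by
    conv_lhs => rw [h.gen]
    exact V_mono h0 le_rfl
  have hWzl : W ≤ zl (S : Subgroup G) (YS S) :=
    V_le_of (inf_le_left.trans (zc_le_zl _ _)) (le_normalizer_zl _ _)
  have hWc : W ≤ centralizer (W : Set G) :=
    hWzl.trans ((Star.zl_comm hc hm).trans (centralizer_le hWzl))
  have hW2 : ∀ v ∈ W, v ^ 2 = 1 := fun v hv => Star.zl_sq hc hm v (hWzl hv)
  have hWp : IsPGroup 2 W := fun x => ⟨1, Subtype.ext (by simpa using hW2 x x.2)⟩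
  have hYW : YS (S : Subgroup G) ≤ normalizer (W : Set G) := le_norm_V _ _
  have hWS : W ≤ S := le_of_le_normalizer S hWp (h.S_le_ys.trans hYW)
  -- `C_G(R)` centralises `W`
  have hcW : centralizer (R : Set G) ≤ centralizer (W : Set G) := by
    apply cent_symm
    refine V_le_of inf_le_right ?_
    intro y hy
    rw [mem_normalizer_iff_cj, cj_centralizer, cj_eq_of_mem_normalizer (h.ys_cent hy)]
  have hI : Inv (S : Subgroup G) W := by
    refine ⟨⟨hWS, h.S_le_ys.trans hYW, hWc, hW2, fun A hA ho => ?_⟩, hYW, ?_⟩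
    · obtain ⟨X, hXA, hb, hne⟩ := exists_best ho
      exact hne ((h.nn.best (hXA.trans hA) hRW hb).trans hcW)
    · exact V_mono (le_inf (RZ.Z_le _ _) inf_le_left) le_rfl
  have h1 : W ≤ R := by
    have := hI.le_RR
    rwa [← h.eqR] at this
  refine le_antisymm ?_ h0
  rw [h.eq]
  exact le_inf ((RZ.Z_le _ _).trans h1) inf_le_left

/-- `N_G(S) ≤ N_G(R)` -/
theorem nS : normalizer ((S : Subgroup G) : Set G) ≤ normalizer (R : Set G) := by
  have key : ∀ n ∈ normalizer ((S : Subgroup G) : Set G), ∀ W : Subgroup G, Inv (S : Subgroup G) W →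
      Inv (S : Subgroup G) (cj n W) := by
    intro n hn W hW
    have hS : cj n (S : Subgroup G) = S := cj_eq_of_mem_normalizer hn
    have hY : cj n (YS (S : Subgroup G)) = YS (S : Subgroup G) := by
      have h1 : ∀ n ∈ normalizer ((S : Subgroup G) : Set G), cj n (YS (S : Subgroup G)) ≤ YS (S : Subgroup G) := by
        intro n hn
        rw [cj, map_le_iff_le_comap]
        refine sSup_le fun P hP => ?_
        rw [← map_le_iff_le_comap]
        exact le_YS ((FrameNOFF.inv S).nF n hn P hP)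
      refine le_antisymm (h1 n hn) ?_
      have h2 := cj_mono n (h1 n⁻¹ (inv_mem hn))
      rwa [cj_cj_inv] at h2
    have hZ : cj n (zc (S : Subgroup G)) = zc (S : Subgroup G) :=
      cj_eq_of_mem_normalizer (normalizer_le_normalizer_zc _ hn)
    refine ⟨?_, ?_, ?_⟩
    · have := hW.nn.cj n
      rwa [hS] at this
    · rw [← cj_normalizer, ← hY]
      exact cj_mono n hW.ys
    · have h1 := cj_mono n hW.gen
      refine h1.trans ?_
      have h2 : cj n (NoFF.Basic.V (W ⊓ zc (S : Subgroup G)) (YS (S : Subgroup G))) ≤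
          NoFF.Basic.V (cj n (W ⊓ zc (S : Subgroup G))) (YS (S : Subgroup G)) := by
        refine NoFF.Basic.conj_V_le fun p hp => ?_
        have e : MulAut.conj (n * p) • (W ⊓ zc (S : Subgroup G)) =
            MulAut.conj (n * p * n⁻¹) • cj n (W ⊓ zc (S : Subgroup G)) := by
          change _ = MulAut.conj (n * p * n⁻¹) • (MulAut.conj n • (W ⊓ zc (S : Subgroup G)))
          rw [NoFF.Basic.conj_conj]
          congr 1
          group
        rw [e]
        refine NoFF.Basic.Z_le_V ?_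
        have := mem_cj.2 (show n⁻¹ * (n * p * n⁻¹) * n ∈ YS (S : Subgroup G) by
          have e2 : n⁻¹ * (n * p * n⁻¹) * n = p := by group
          rwa [e2])
        rwa [hY] at this
      refine h2.trans (V_mono ?_ le_rfl)
      rw [cj_inf, hZ]
  intro n hn
  rw [mem_normalizer_iff_cj]
  have h1 : ∀ n ∈ normalizer ((S : Subgroup G) : Set G), cj n R ≤ R := by
    intro n hn
    have := (key n hn R h.inv).le_RR
    rwa [← h.eqR] at this
  refine le_antisymm (h1 n hn) ?_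
  have h2 := cj_mono n (h1 n⁻¹ (inv_mem hn))
  rwa [cj_cj_inv] at h2

/-- `N_G(S) ≤ N_G(Z₀)` -/
theorem nSZ : normalizer ((S : Subgroup G) : Set G) ≤ normalizer (Z₀ : Set G) := by
  intro n hn
  rw [mem_normalizer_iff_cj, h.eq, cj_inf, cj_eq_of_mem_normalizer (h.nS hn),
    cj_eq_of_mem_normalizer (normalizer_le_normalizer_zc _ hn)]

/-- `N_G(T₁) ≤ N_G(V^!(S))` for `C_S(R) ≤ T₁ ≤ S` -/
theorem norm_bang {T₁ : Subgroup G} (h1 : (S : Subgroup G) ⊓ centralizer (R : Set G) ≤ T₁) (h2 : T₁ ≤ S) :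
    normalizer (T₁ : Set G) ≤ normalizer (bang (S : Subgroup G) : Set G) :=
  NO3b.Bang.le_normalizer_bang ((inf_le_inf_left _ (centralizer_le h.le_bang)).trans h1) h2

/-- `P ∈ P*(S)` and `C_S(R) ≤ O₂(P)` imply `P ≤ N_G(V^!(S))`. -/
theorem norm_of {P : Subgroup G} (hP : IsParS (S : Subgroup G) P)
    (h1 : (S : Subgroup G) ⊓ centralizer (R : Set G) ≤ o2 P) : P ≤ normalizer (bang (S : Subgroup G) : Set G) :=
  (le_normalizer_o2 P).trans (h.norm_bang h1 (hP.isLoc.o2_le S))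

/-- Otherwise `P = C_P(R) S`. -/
theorem act_of {P : Subgroup G} (hP : IsParS (S : Subgroup G) P)
    (h1 : ¬ (S : Subgroup G) ⊓ centralizer (R : Set G) ≤ o2 P) : P ⊓ centralizer (R : Set G) ⊔ (S : Subgroup G) = P := by
  have hn : P ≤ normalizer ((P ⊓ centralizer (R : Set G) : Subgroup G) : Set G) := by
    intro p hp
    rw [mem_normalizer_iff_cj, cj_inf, cj_centralizer, cj_eq_of_mem_normalizer (le_normalizer hp),
      cj_eq_of_mem_normalizer (h.par hP hp)]
  rcases hP.toIsPar.sup_eq_or_inf_le S inf_le_left hn with h2 | h2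
  · exact h2
  · exfalso
    refine h1 (le_trans ?_ h2)
    exact le_inf inf_le_left (le_inf (inf_le_left.trans hP.le) inf_le_right)

/-- Otherwise `P ≤ C_G(Z₀)`. -/
theorem cent_of {P : Subgroup G} (hP : IsParS (S : Subgroup G) P)
    (h1 : ¬ (S : Subgroup G) ⊓ centralizer (R : Set G) ≤ o2 P) : P ≤ centralizer (Z₀ : Set G) := by
  rw [← h.act_of hP h1]
  refine sup_le (inf_le_right.trans (centralizer_le h.Z_le)) ?_
  exact (le_CZ S).trans (centralizer_le h.Z_le_zc)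

theorem dich {P : Subgroup G} (hP : IsParS (S : Subgroup G) P) : P ≤ LL (S : Subgroup G) R ∨
    P ≤ centralizer (Z₀ : Set G) := by
  by_cases h1 : (S : Subgroup G) ⊓ centralizer (R : Set G) ≤ o2 P
  · exact Or.inl (le_sSup ⟨hP, h1⟩)
  · exact Or.inr (h.cent_of hP h1)

theorem CZ_le : CZ (S : Subgroup G) ≤ centralizer (Z₀ : Set G) := centralizer_le h.Z_le_zc

/-- **`⟨L, C_G(Z₀)⟩` is nonlocal.** -/
theorem nonLocL {U : Subgroup G} (hU : IsPGroup 2 U) (h1 : LL (S : Subgroup G) R ≤ normalizer (U : Set G))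
    (h2 : centralizer (Z₀ : Set G) ≤ normalizer (U : Set G)) : U = ⊥ := by
  refine eq_bot_of_norm h.ctx S h.full hU (fun P hP => ?_) (h.CZ_le.trans h2)
  rcases h.dich hP with h3 | h3
  · exact h3.trans h1
  · exact h3.trans h2

omit h [Finite G] in
theorem LL_le_ys : LL (S : Subgroup G) R ≤ YS (S : Subgroup G) := sSup_le fun _ hP => le_YS hP.1

theorem LL_le : LL (S : Subgroup G) R ≤ normalizer (R : Set G) := LL_le_ys.trans h.ys

/-- **`⟨N_G(R), C_G(Z₀)⟩` is nonlocal.** -/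
theorem nonLoc {U : Subgroup G} (hU : IsPGroup 2 U) (h1 : normalizer (R : Set G) ≤ normalizer (U : Set G))
    (h2 : centralizer (Z₀ : Set G) ≤ normalizer (U : Set G)) : U = ⊥ :=
  h.nonLocL hU (h.LL_le.trans h1) h2

theorem LL_ex : ∃ P, IsParS (S : Subgroup G) P ∧ (S : Subgroup G) ⊓ centralizer (R : Set G) ≤ o2 P := by
  by_contra hcon
  have h0 : Z₀ = ⊥ := by
    refine h.nonLocL (S.isPGroup'.to_le (h.Z_le.trans h.R_le)) ?_ (centralizer_le_normalizer _)
    refine sSup_le fun P hP => ?_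
    exact absurd ⟨P, hP⟩ hcon
  exact h.Z_ne h0

theorem S_le_LL : (S : Subgroup G) ≤ LL (S : Subgroup G) R := by
  obtain ⟨P, hP, h1⟩ := h.LL_ex
  exact hP.le.trans (le_sSup ⟨hP, h1⟩)

/-- `C_S(R)` is normal in `L`. -/
theorem LL_cs : LL (S : Subgroup G) R ≤
    normalizer (((S : Subgroup G) ⊓ centralizer (R : Set G) : Subgroup G) : Set G) := by
  refine sSup_le ?_
  rintro P ⟨hP, h1⟩
  have e : (S : Subgroup G) ⊓ centralizer (R : Set G) = o2 P ⊓ centralizer (R : Set G) :=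
    le_antisymm (le_inf h1 inf_le_right) (inf_le_inf_right _ (hP.isLoc.o2_le S))
  rw [e]
  intro p hp
  rw [mem_normalizer_iff_cj, cj_inf, cj_centralizer, cj_eq_of_mem_normalizer (le_normalizer_o2 P hp),
    cj_eq_of_mem_normalizer (h.par hP hp)]

/-- `R = ⟨Z₀^L⟩` -/
theorem V_LL : NoFF.Basic.V Z₀ (LL (S : Subgroup G) R) = R := by
  refine le_antisymm (V_le_of h.Z_le h.LL_le) ?_
  conv_lhs => rw [h.gen]
  refine V_le_of (RZ.Z_le _ _) ?_
  refine sSup_le fun P hP => ?_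
  by_cases h1 : (S : Subgroup G) ⊓ centralizer (R : Set G) ≤ o2 P
  · exact (show P ≤ LL (S : Subgroup G) R from le_sSup ⟨hP, h1⟩).trans (le_norm_V _ _)
  · rw [← h.act_of hP h1]
    refine sup_le ?_ (h.S_le_LL.trans (le_norm_V _ _))
    refine inf_le_right.trans ?_
    exact (centralizer_le (V_le_of h.Z_le h.LL_le)).trans (centralizer_le_normalizer _)

/-- **`C_R(N_G(R)) = 1`** -/
theorem cN : R ⊓ centralizer ((normalizer (R : Set G) : Subgroup G) : Set G) = ⊥ := by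
  refine h.nonLoc (h.pg.to_le inf_le_left) ?_ ?_
  · refine le_trans ?_ (centralizer_le_normalizer _)
    intro g hg
    rw [mem_centralizer_iff]
    intro v hv
    exact (mem_centralizer_iff.1 hv.2 g hg).symm
  · refine le_trans (centralizer_le ?_) (centralizer_le_normalizer _)
    intro v hv
    refine h.fix hv.1 fun s hs => ?_
    exact (mem_centralizer_iff.1 hv.2 s (h.S_le hs)).symm

/-- **`C_G(Z) ≰ N_G(R)`** -/
theorem flag : ¬ centralizer (zc (S : Subgroup G) : Set G) ≤ normalizer (R : Set G) := by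
  intro hC
  exact h.ne (eq_bot_of_norm h.ctx S h.full h.pg (fun P hP => h.par hP) hC)

/-- a 2-group which is normal in `N_G(R)` modulo `C_G(R)` centralises `R` -/
theorem O2 {K : Subgroup G} (hK : K ≤ S)
    (hn : ∀ g ∈ normalizer (R : Set G), ∀ k ∈ K, g * k * g⁻¹ ∈ K ⊔ centralizer (R : Set G)) :
    K ≤ centralizer (R : Set G) := by
  have h1 : ∀ x ∈ K ⊔ centralizer (R : Set G), ∀ z ∈ Z₀, x * z = z * x := by
    intro x hx z hz
    have h2 : K ⊔ centralizer (R : Set G) ≤ centralizer (Z₀ : Set G) :=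
      sup_le (hK.trans ((le_CZ S).trans h.CZ_le)) (centralizer_le h.Z_le)
    exact (mem_centralizer_iff.1 (h2 hx) z hz).symm
  apply cent_symm
  rw [h.genN]
  refine NoFF.Basic.V_le fun g hg => ?_
  intro v hv
  rw [NoFF.Basic.mem_conj] at hv
  rw [mem_centralizer_iff]
  intro k hk
  have h2 := h1 _ (hn g⁻¹ (inv_mem hg) k hk) _ hv
  have h3 : g⁻¹ * (k * v) * g = g⁻¹ * (v * k) * g := by
    calc g⁻¹ * (k * v) * g = g⁻¹ * k * g⁻¹⁻¹ * (g⁻¹ * v * g) := by group
      _ = g⁻¹ * v * g * (g⁻¹ * k * g⁻¹⁻¹) := h2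
      _ = g⁻¹ * (v * k) * g := by group
  have h4 := mul_right_cancel h3
  exact mul_left_cancel h4

end Frm

end fin

/-! ### The sockets -/

section sockets

variable (K : Cls.{u})

/-- [R-z]: there is a nontrivial `⟨P*(S)⟩`-invariant member `⟨Z₀^⟨P*(S)⟩⟩` of `NN(S)`. -/
def RBr : Prop :=
  ∀ (G : Type u) [Group G] [Finite G], K G → ∀ (S : Sylow 2 G), RB S → RR (S : Subgroup G) ≠ ⊥ → IsKnownSimple' G

/-- [R-c]: there is none. -/
def RBn : Prop :=
  ∀ (G : Type u) [Group G] [Finite G], K G → ∀ (S : Sylow 2 G), RB S → RR (S : Subgroup G) = ⊥ → IsKnownSimple' G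

end sockets

/-- (RC') implies `RR S = 1`. -/
theorem eq_bot_of_rc {G : Type u} [Group G] [Finite G] {S : Sylow 2 G}
    (hc : ∀ z ∈ zc (S : Subgroup G), z ≠ 1 →
      ∃ P ∈ FZ (S : Subgroup G) z, ¬ P ≤ normalizer (bang (S : Subgroup G) : Set G)) : RR (S : Subgroup G) = ⊥ := by
  have hI := inv_RR (S : Subgroup G)
  by_contra hne
  have h1 : RR (S : Subgroup G) ⊓ zc (S : Subgroup G) = ⊥ := by
    by_contra h0
    obtain ⟨⟨z, hz⟩, hz1⟩ := Subgroup.ne_bot_iff_exists_ne_one.1 h0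
    have hz1' : z ≠ 1 := fun h => hz1 (Subtype.ext h)
    obtain ⟨P, hP, hn⟩ := hc z hz.2 hz1'
    apply hn
    -- `C_S(R) ≤ O₂(P)`
    have hPR : P ≤ normalizer (RR (S : Subgroup G) : Set G) := (le_YS hP.1).trans hI.ys
    have hn' : P ≤ normalizer ((P ⊓ centralizer (RR (S : Subgroup G) : Set G) : Subgroup G) : Set G) := by
      intro p hp
      rw [mem_normalizer_iff_cj, cj_inf, cj_centralizer, cj_eq_of_mem_normalizer (le_normalizer hp),
        cj_eq_of_mem_normalizer (hPR hp)]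
    have h2 : (S : Subgroup G) ⊓ centralizer (RR (S : Subgroup G) : Set G) ≤ o2 P := by
      rcases hP.1.toIsPar.sup_eq_or_inf_le S inf_le_left hn' with h2 | h2
      · exfalso
        apply hP.2
        rw [← h2]
        refine sup_le (inf_le_right.trans (centralizer_le (Set.singleton_subset_iff.2 hz.1))) ?_
        exact ZCut.le_cent hz.2
      · refine le_trans ?_ h2
        exact le_inf inf_le_left (le_inf (inf_le_left.trans hP.1.le) inf_le_right)
    exact (le_normalizer_o2 P).trans (NO3b.Bang.le_normalizer_bang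
      ((inf_le_inf_left _ (centralizer_le hI.nn.le_bang)).trans h2) (hP.1.isLoc.o2_le S))
  apply hne
  have h2 := hI.gen
  rw [h1] at h2
  rw [eq_bot_iff]
  refine h2.trans (NoFF.Basic.V_le fun p _ => ?_)
  rw [show MulAut.conj p • (⊥ : Subgroup G) = ⊥ from Subgroup.map_bot _]

/-- The new socket is stronger than the old one. -/
theorem rbc_of {K : Cls.{u}} (h : RBn K) : RTree.RBc K := fun G _ _ hK S hB hc => h G hK S hB (eq_bot_of_rc hc)

/-- The new sockets give the old ones. -/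
theorem rbz_of {K : Cls.{u}} (hr : RBr K) (hn : RBn K) : RTree.RBz K := fun G _ _ hK S hB _ _ _ _ => by
  by_cases h : RR (S : Subgroup G) = ⊥
  · exact hn G hK S hB h
  · exact hr G hK S hB h

end Cfsg.Agent.Omega.NOThreeL.RZ
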