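import Cfsg.Agent.Omega.NOThreeL.RZ.Frame
import Cfsg.Agent.Omega.NOThreeL.RTreeF

/-!
# NO-3L, box R, [R-z]: case (I), `⟨L, C_G(Z)⟩` nonlocal (helper960 #23876 (I))

`R = RR S ≠ 1`, `L = LL S R = ⟨P ∈ P*(S) : C_S(R) ≤ O₂(P)⟩`, `V_L = ⟨Z^L⟩`.

* `LL_ex`, `S_le_LL`, `LL_cs`, `V_LL`, `LL_le` : the facts of `RZ/Frame.lean` about `L`, without `low`;
* `cs_le` : `C_S(R)` centralises `V_L`; `nn_V` : `V_L ∈ NN(S)`; `not_FFMod`;
* `isLoc_LL` : `L` is local;
* `hypG_of` : if `V_L ≤ O₂(C_G(Z))` and `⟨L, C_G(Z)⟩` is nonlocal then `Merge.HypG S L`;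
* `low_of_isLoc` : if `⟨L, C_G(Z)⟩` is local then `V_L ≤ O₂(C_G(Z))`, so `RR S ≤ O₂(C_G(Z))`;
* `RBrL K` : the socket `RB S`, `RR S ≠ 1`, `⟨L, C_G(Z)⟩` local; `rbr_of` : `RZ.RBr K`; `RBrLF K`, `rbrF_of` : the same
  with `V*` FF.
-/

set_option autoImplicit false

namespace Cfsg.Agent.Omega.NOThreeL.RZ.CaseI

open Subgroup Cfsg
open Cfsg.Agent.ZN (o2 zc zl)
open Cfsg.Agent.ZN.ChoiceBase hiding mem_zc
open Cfsg.Agent.Omega.MinPar Cfsg.Agent.Omega.Frame Cfsg.Agent.Omega.FrameNOFF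
open Cfsg.Agent.Omega.Node.NO3L Cfsg.Agent.Omega.NOThreeL.Basic Cfsg.Agent.Omega.NOThreeL.Main
open Cfsg.Agent.Omega.NO3b.Bang
open Cfsg.Agent.Omega.NO1.BestOff (Best exists_best)
open Cfsg.Agent.Omega.NOThreeL.Star (YS le_YS S_le_YS zl_mono)
open Cfsg.Agent.Omega.NOThreeL.RTree (RB)
open Cfsg.Agent.Omega.NOThreeL.RTreeF (RBF)
open Cfsg.Agent.Omega.NOThreeL.Merge (HypG NotFFG)
open Cfsg.Agent.Omega.NO3S (FFMod)
open Cfsg.Agent.MinSimple.VModule (zc_le_zl le_normalizer_zl zl_le zc_le mem_zc le_centralizer_zc zc_sq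
  le_normalizer_o2 o2_isPGroup o2_le le_o2 normalizer_le_normalizer_zc)
open scoped Pointwise

universe u

variable {G : Type u} [Group G] [Finite G] {S : Sylow 2 G}

/-! ### The group `L` -/

section frame

variable (h : RB S)
include h

theorem S_le_ys : (S : Subgroup G) ≤ YS (S : Subgroup G) := S_le_YS h.ctx h.full

omit h in
theorem R_le : RR (S : Subgroup G) ≤ (S : Subgroup G) := (inv_RR _).nn.le

omit h in
/-- `P = C_P(R) S` for `P ∈ P*(S)` with `C_S(R) ≰ O₂(P)`. -/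
theorem act_of {P : Subgroup G} (hP : IsParS (S : Subgroup G) P)
    (h1 : ¬ (S : Subgroup G) ⊓ centralizer (RR (S : Subgroup G) : Set G) ≤ o2 P) :
    P ⊓ centralizer (RR (S : Subgroup G) : Set G) ⊔ (S : Subgroup G) = P := by
  have hn : P ≤ normalizer ((P ⊓ centralizer (RR (S : Subgroup G) : Set G) : Subgroup G) : Set G) := by
    intro p hp
    rw [mem_normalizer_iff_cj, cj_inf, cj_centralizer, cj_eq_of_mem_normalizer (le_normalizer hp),
      cj_eq_of_mem_normalizer ((inv_RR _).ys (le_YS hP hp))]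
  rcases hP.toIsPar.sup_eq_or_inf_le S inf_le_left hn with h2 | h2
  · exact h2
  · exfalso
    refine h1 (le_trans ?_ h2)
    exact le_inf inf_le_left (le_inf (inf_le_left.trans hP.le) inf_le_right)

omit h in
/-- Otherwise `P` centralises `R ∩ Z`. -/
theorem cent_of {P : Subgroup G} (hP : IsParS (S : Subgroup G) P)
    (h1 : ¬ (S : Subgroup G) ⊓ centralizer (RR (S : Subgroup G) : Set G) ≤ o2 P) :
    P ≤ centralizer ((RR (S : Subgroup G) ⊓ zc (S : Subgroup G) : Subgroup G) : Set G) := by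
  rw [← act_of hP h1]
  refine sup_le (inf_le_right.trans (centralizer_le inf_le_left)) ?_
  exact (le_CZ S).trans (centralizer_le inf_le_right)

omit h [Finite G] in
theorem LL_le_ys : LL (S : Subgroup G) (RR (S : Subgroup G)) ≤ YS (S : Subgroup G) :=
  sSup_le fun _ hP => le_YS hP.1

omit h in
theorem LL_le : LL (S : Subgroup G) (RR (S : Subgroup G)) ≤ normalizer (RR (S : Subgroup G) : Set G) :=
  LL_le_ys.trans (inv_RR _).ys

omit h in
/-- `C_S(R)` is normal in `L`. -/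
theorem LL_cs : LL (S : Subgroup G) (RR (S : Subgroup G)) ≤
    normalizer (((S : Subgroup G) ⊓ centralizer (RR (S : Subgroup G) : Set G) : Subgroup G) : Set G) := by
  refine sSup_le ?_
  rintro P ⟨hP, h1⟩
  have e : (S : Subgroup G) ⊓ centralizer (RR (S : Subgroup G) : Set G) =
      o2 P ⊓ centralizer (RR (S : Subgroup G) : Set G) :=
    le_antisymm (le_inf h1 inf_le_right) (inf_le_inf_right _ (hP.isLoc.o2_le S))
  rw [e]
  intro p hp
  rw [mem_normalizer_iff_cj, cj_inf, cj_centralizer, cj_eq_of_mem_normalizer (le_normalizer_o2 P hp),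
    cj_eq_of_mem_normalizer ((inv_RR _).ys (le_YS hP hp))]

variable (hR : RR (S : Subgroup G) ≠ ⊥)
include hR

omit h in
theorem Z_ne : RR (S : Subgroup G) ⊓ zc (S : Subgroup G) ≠ ⊥ := by
  intro h0
  apply hR
  rw [eq_bot_iff]
  refine (inv_RR (S : Subgroup G)).gen.trans ?_
  rw [h0]
  refine NoFF.Basic.V_le fun p _ => ?_
  rw [show MulAut.conj p • (⊥ : Subgroup G) = ⊥ from Subgroup.map_bot _]

theorem LL_ex : ∃ P, IsParS (S : Subgroup G) P ∧
    (S : Subgroup G) ⊓ centralizer (RR (S : Subgroup G) : Set G) ≤ o2 P := by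
  by_contra hcon
  apply Z_ne hR
  refine FrameNOFF.eq_bot_of_norm h.ctx S h.full (S.isPGroup'.to_le (inf_le_right.trans (zc_le _))) (fun P hP => ?_)
    ((centralizer_le inf_le_right).trans (centralizer_le_normalizer _))
  exact (cent_of hP fun h1 => hcon ⟨P, hP, h1⟩).trans (centralizer_le_normalizer _)

theorem S_le_LL : (S : Subgroup G) ≤ LL (S : Subgroup G) (RR (S : Subgroup G)) := by
  obtain ⟨P, hP, h1⟩ := LL_ex h hR
  exact hP.le.trans (le_sSup ⟨hP, h1⟩)

/-- `R = ⟨(R ∩ Z)^L⟩` -/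
theorem V_LL : NoFF.Basic.V (RR (S : Subgroup G) ⊓ zc (S : Subgroup G))
    (LL (S : Subgroup G) (RR (S : Subgroup G))) = RR (S : Subgroup G) := by
  refine le_antisymm (V_le_of inf_le_left LL_le) ?_
  refine (inv_RR (S : Subgroup G)).gen.trans ?_
  refine V_le_of (RZ.Z_le _ _) ?_
  refine sSup_le fun P hP => ?_
  by_cases h1 : (S : Subgroup G) ⊓ centralizer (RR (S : Subgroup G) : Set G) ≤ o2 P
  · exact (show P ≤ LL (S : Subgroup G) (RR (S : Subgroup G)) from le_sSup ⟨hP, h1⟩).trans (le_norm_V _ _)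
  · rw [← act_of hP h1]
    refine sup_le ?_ ((S_le_LL h hR).trans (le_norm_V _ _))
    refine inf_le_right.trans ?_
    exact (centralizer_le (V_le_of inf_le_left LL_le)).trans (centralizer_le_normalizer _)

/-- `R ≤ V_L` -/
theorem R_le_zl : RR (S : Subgroup G) ≤
    zl (S : Subgroup G) (LL (S : Subgroup G) (RR (S : Subgroup G))) := by
  have h1 : NoFF.Basic.V (RR (S : Subgroup G) ⊓ zc (S : Subgroup G)) (LL (S : Subgroup G) (RR (S : Subgroup G))) ≤
      zl (S : Subgroup G) (LL (S : Subgroup G) (RR (S : Subgroup G))) :=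
    V_le_of (inf_le_right.trans (zc_le_zl _ _)) (le_normalizer_zl _ _)
  exact (V_LL h hR).ge.trans h1

omit hR h in
/-- `C_S(R)` centralises `V_L`. -/
theorem cs_le : (S : Subgroup G) ⊓ centralizer (RR (S : Subgroup G) : Set G) ≤
    centralizer (zl (S : Subgroup G) (LL (S : Subgroup G) (RR (S : Subgroup G))) : Set G) := by
  apply NO3b.Bang.cent_symm
  refine zl_le ?_ ?_
  · intro z hz
    rw [mem_centralizer_iff]
    intro s hs
    exact (mem_zc.1 hz).2.1 s hs.1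
  · intro l hl
    rw [mem_normalizer_iff_cj, cj_centralizer, cj_eq_of_mem_normalizer (LL_cs hl)]

/-- **`V_L ∈ NN(S)`** -/
theorem nn_V : NN (S : Subgroup G) (zl (S : Subgroup G) (LL (S : Subgroup G) (RR (S : Subgroup G)))) := by
  set L := LL (S : Subgroup G) (RR (S : Subgroup G)) with hL
  have hSL : (S : Subgroup G) ≤ L := S_le_LL h hR
  have hc := h.ctx.char2
  have hm := h.data.noff
  have h1 : zl (S : Subgroup G) L ≤ zl (S : Subgroup G) (YS (S : Subgroup G)) :=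
    NOThreeL.Star.zl_mono _ (LL_le_ys (S := S))
  have hVc : zl (S : Subgroup G) L ≤ centralizer (zl (S : Subgroup G) L : Set G) :=
    h1.trans ((Star.zl_comm hc hm).trans (centralizer_le h1))
  have hV2 : ∀ v ∈ zl (S : Subgroup G) L, v ^ 2 = 1 := fun v hv => Star.zl_sq hc hm v (h1 hv)
  have hVp : IsPGroup 2 (zl (S : Subgroup G) L) := fun x => ⟨1, Subtype.ext (by simpa using hV2 x x.2)⟩
  have hN : (S : Subgroup G) ≤ normalizer (zl (S : Subgroup G) L : Set G) := hSL.trans (le_normalizer_zl _ _)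
  refine ⟨MinPar.le_of_le_normalizer S hVp hN, hN, hVc, hV2, fun A hA ho => ?_⟩
  obtain ⟨X, hXA, hb, hne⟩ := exists_best ho
  have hX : X ≤ centralizer (RR (S : Subgroup G) : Set G) :=
    (inv_RR (S : Subgroup G)).nn.best (hXA.trans hA) (R_le_zl h hR) hb
  exact hne ((le_inf (hXA.trans hA) hX).trans cs_le)

theorem not_FFMod : ¬ FFMod (S : Subgroup G) (LL (S : Subgroup G) (RR (S : Subgroup G))) := by
  rintro ⟨A, hA, ho⟩
  exact (nn_V h hR).nff A hA ho

/-- `L` is local. -/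
theorem isLoc_LL : IsLoc (S : Subgroup G) (LL (S : Subgroup G) (RR (S : Subgroup G))) :=
  isLoc_of_le_normalizer S (S_le_LL h hR) (S.isPGroup'.to_le R_le) hR LL_le

/-- **Case (I)**: `⟨L, C_G(Z)⟩` nonlocal. -/
theorem hypG_of (low : zl (S : Subgroup G) (LL (S : Subgroup G) (RR (S : Subgroup G))) ≤
      o2 (CZ (S : Subgroup G)))
    (hn : NonLoc (LL (S : Subgroup G) (RR (S : Subgroup G))) (CZ (S : Subgroup G))) :
    HypG S (LL (S : Subgroup G) (RR (S : Subgroup G))) where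
  ctx := h.ctx
  full := h.full
  noFF := h.data.noff
  low := h.data.low
  loc := isLoc_LL h hR
  gen := by
    refine sSup_le ?_
    rintro P ⟨hP, h1⟩
    exact le_sSup ⟨hP, le_sSup ⟨hP, h1⟩⟩
  nonLoc := hn
  lowM := low
  nff := not_FFMod h hR

omit hR in
/-- **Case (II)**: if `⟨L, C_G(Z)⟩` is local then `V_L ≤ O₂(C_G(Z))`. -/
theorem low_of_isLoc (hl : IsLoc (S : Subgroup G) (LL (S : Subgroup G) (RR (S : Subgroup G)) ⊔
      CZ (S : Subgroup G))) :
    zl (S : Subgroup G) (LL (S : Subgroup G) (RR (S : Subgroup G)) ⊔ CZ (S : Subgroup G)) ≤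
      o2 (CZ (S : Subgroup G)) :=
  ((hl.zl_le S h.ctx.char2).trans (zc_le _)).trans
    (le_o2 ((hl.o2_le S).trans (le_CZ S)) (o2_isPGroup _) (le_sup_right.trans (le_normalizer_o2 _)))

/-- `V_L ≤ O₂(C_G(Z))` implies `RR S ≤ O₂(C_G(Z))`. -/
theorem low_RR (low : zl (S : Subgroup G) (LL (S : Subgroup G) (RR (S : Subgroup G))) ≤
      o2 (CZ (S : Subgroup G))) : RR (S : Subgroup G) ≤ o2 (CZ (S : Subgroup G)) :=
  (R_le_zl h hR).trans low

end frame

/-! ### The sockets -/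

section sockets

variable (K : Cls.{u})

/-- [R-z], case (II): `⟨L, C_G(Z)⟩` is local. -/
def RBrL : Prop :=
  ∀ (G : Type u) [Group G] [Finite G], K G → ∀ (S : Sylow 2 G), RB S → RR (S : Subgroup G) ≠ ⊥ →
    IsLoc (S : Subgroup G) (LL (S : Subgroup G) (RR (S : Subgroup G)) ⊔ CZ (S : Subgroup G)) → IsKnownSimple' G

/-- [R-z], case (II), `V*` FF. -/
def RBrLF : Prop :=
  ∀ (G : Type u) [Group G] [Finite G], K G → ∀ (S : Sylow 2 G), RBF S → RR (S : Subgroup G) ≠ ⊥ →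
    IsLoc (S : Subgroup G) (LL (S : Subgroup G) (RR (S : Subgroup G)) ⊔ CZ (S : Subgroup G)) → IsKnownSimple' G

/-- [R-z] with `V*` FF. -/
def RBrF : Prop :=
  ∀ (G : Type u) [Group G] [Finite G], K G → ∀ (S : Sylow 2 G), RBF S → RR (S : Subgroup G) ≠ ⊥ →
    IsKnownSimple' G

end sockets

/-- `V_L ≤ O₂(C_G(Z))` (helper163 #23641, helper960 #23876 (b)). -/
def LowL : Prop :=
  ∀ (G : Type u) [Group G] [Finite G] (S : Sylow 2 G), RBF S → RR (S : Subgroup G) ≠ ⊥ →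
    zl (S : Subgroup G) (LL (S : Subgroup G) (RR (S : Subgroup G))) ≤ o2 (CZ (S : Subgroup G))

/-- **[R-z] with `V*` FF from case (II).** -/
theorem rbrF_of {K : Cls.{u}} (hN : NotFFG K) (hl : LowL.{u}) (h2 : RBrLF K) : RBrF K := by
  intro G _ _ hK S hB hR
  have hS := S_le_LL hB.toRB hR
  by_cases hn : NonLoc (LL (S : Subgroup G) (RR (S : Subgroup G))) (CZ (S : Subgroup G))
  · exact hN G hK S _ (hypG_of hB.toRB hR (hl G S hB hR) hn)
  · exact h2 G hK S hB hR ((not_nonLoc_iff S hS).1 hn)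

/-- **[R-z] from case (II)**, the form over `RB`. -/
theorem rbr_of {K : Cls.{u}} (hN : NotFFG K)
    (hl : ∀ (G : Type u) [Group G] [Finite G] (S : Sylow 2 G), RB S → RR (S : Subgroup G) ≠ ⊥ →
      zl (S : Subgroup G) (LL (S : Subgroup G) (RR (S : Subgroup G))) ≤ o2 (CZ (S : Subgroup G)))
    (h2 : RBrL K) : RBr K := by
  intro G _ _ hK S hB hR
  have hS := S_le_LL hB hR
  by_cases hn : NonLoc (LL (S : Subgroup G) (RR (S : Subgroup G))) (CZ (S : Subgroup G))
  · exact hN G hK S _ (hypG_of hB hR (hl G S hB hR) hn)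
  · exact h2 G hK S hB hR ((not_nonLoc_iff S hS).1 hn)

/-- With R-LOW: `RB S` has `V*` FF. -/
theorem rbF_of_rb (T : RLow.Parts.{u}) {G : Type u} [Group G] [Finite G] {S : Sylow 2 G} (h : RB S) : RBF S := by
  obtain ⟨P, hP, hz⟩ := h.ex
  refine ⟨h.ctx, h.full, h.data, h.notA, ?_, P, hP, hz⟩
  by_contra h1
  rcases h.ff with h2 | h2
  · exact h1 h2
  · exact h2 (RLow.low_of T h.ctx h.full h.data h.notA ⟨P, hP, hz⟩ h1)

/-- **`RZ.RBr K`** from R-LOW and the form with `V*` FF. -/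
theorem rbr_of_F (T : RLow.Parts.{u}) {K : Cls.{u}} (h : RBrF K) : RBr K :=
  fun G _ _ hK S hB hR => h G hK S (rbF_of_rb T hB) hR

end Cfsg.Agent.Omega.NOThreeL.RZ.CaseI
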