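import Cfsg.Agent.Omega.NOThreeL.RZ.CaseI
import Cfsg.Agent.Omega.NOThreeL.RZ.TwoC.Def

/-!
# NO-3L, box R, [R-z]: case (I) + case (II) (helper960 #23876, helper513 #24309, helper568)

* `frm_of_isLoc` : the frame `Frm S (R ∩ Z) R` in case (II), without R-LOW;
* `rbrL_of_II` : `CaseI.RBrL K` from `TwoC.RBrII K`;
* `rbr_of_II` : `RZ.RBr K` from `Merge.NotFFG K`, `V_L ≤ O₂(C_G(Z))` and `TwoC.RBrII K`.
-/

set_option autoImplicit false

namespace Cfsg.Agent.Omega.NOThreeL.RZ.CaseIGlue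

open Subgroup Cfsg
open Cfsg.Agent.ZN (o2 zc zl)
open Cfsg.Agent.Omega.MinPar Cfsg.Agent.Omega.Frame Cfsg.Agent.Omega.FrameNOFF
open Cfsg.Agent.Omega.NOThreeL.RTree (RB)
open Cfsg.Agent.Omega.NOThreeL.RTreeF (RBF)
open Cfsg.Agent.Omega.NOThreeL.Merge (NotFFG)
open Cfsg.Agent.Omega.NOThreeL.RZ.CaseI

universe u

section

variable {G : Type u} [Group G] [Finite G] {S : Sylow 2 G}

/-- **The frame in case (II)**: `RR S ≤ O₂(C_G(Z))` is automatic. -/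
theorem frm_of_isLoc (h : RB S) (hR : RR (S : Subgroup G) ≠ ⊥)
    (hl : IsLoc (S : Subgroup G) (LL (S : Subgroup G) (RR (S : Subgroup G)) ⊔ CZ (S : Subgroup G))) :
    Frm S (RR (S : Subgroup G) ⊓ zc (S : Subgroup G)) (RR (S : Subgroup G)) := by
  refine frm_of h ?_ hR
  refine low_RR h hR ?_
  exact (NOThreeL.Star.zl_mono _ le_sup_left).trans (low_of_isLoc h hl)

end

/-- case (II) in the form of `CaseI` -/
theorem rbrL_of_II {K : Cls.{u}} (h2 : TwoC.RBrII K) : RBrL K :=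
  fun G _ _ hK S hB hR hl => h2 G hK S _ _ hB (frm_of_isLoc hB hR hl) hl

/-- **`RZ.RBr K` from the two cases.** -/
theorem rbr_of_II {K : Cls.{u}} (hN : NotFFG K)
    (hl : ∀ (G : Type u) [Group G] [Finite G] (S : Sylow 2 G), RB S → RR (S : Subgroup G) ≠ ⊥ →
      zl (S : Subgroup G) (LL (S : Subgroup G) (RR (S : Subgroup G))) ≤ o2 (CZ (S : Subgroup G)))
    (h2 : TwoC.RBrII K) : RBr K :=
  rbr_of hN hl (rbrL_of_II h2)

/-- The same with `V*` FF: `LowL` over `RBF`. -/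
theorem rbrF_of_II {K : Cls.{u}} (hN : NotFFG K) (hl : LowL.{u}) (h2 : TwoC.RBrII K) : RBrF K :=
  rbrF_of hN hl fun G _ _ hK S hB hR hloc => h2 G hK S _ _ hB.toRB (frm_of_isLoc hB.toRB hR hloc) hloc

end Cfsg.Agent.Omega.NOThreeL.RZ.CaseIGlue
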