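import Cfsg.Agent.Omega.NO3b.EZeroBase
import Cfsg.Agent.Omega.FFThmM

/-!
# NO-3L, box R, [R-z]: LEMMA EX (helper960, #21049 (2))

`A` acts exactly on `U` and no subgroup of `A` is an over-offender on `U`; `V ≤ U` has no offender: `A ≤ C(V)`.
-/

set_option autoImplicit false

namespace Cfsg.Agent.Omega.NOThreeL.RZ.Ex

open Subgroup Cfsg

variable {G : Type*} [Group G] [Finite G]

/-- **LEMMA EX**, numerical form -/
theorem le_centralizer {A U V : Subgroup G} (hU : ∀ x ∈ U, ∀ y ∈ U, x * y = y * x) (hVU : V ≤ U)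
    (hex : Nat.card U * Nat.card ↥(A ⊓ centralizer (U : Set G)) ≤ Nat.card A * Nat.card ↥(U ⊓ centralizer (A : Set G)))
    (hno : ∀ A₀ : Subgroup G, A₀ ≤ A → Nat.card A₀ * Nat.card ↥(U ⊓ centralizer (A₀ : Set G)) ≤
      Nat.card U * Nat.card ↥(A₀ ⊓ centralizer (U : Set G)))
    (hoff : ¬ A ≤ centralizer (V : Set G) →
      Nat.card A * Nat.card ↥(V ⊓ centralizer (A : Set G)) < Nat.card V * Nat.card ↥(A ⊓ centralizer (V : Set G))) :
    A ≤ centralizer (V : Set G) := by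
  by_contra hne
  have h1 := hoff hne
  set A₀ : Subgroup G := A ⊓ centralizer (V : Set G) with hA₀
  have h2 := hno A₀ inf_le_left
  have e1 : A₀ ⊓ centralizer (U : Set G) = A ⊓ centralizer (U : Set G) := by
    refine le_antisymm (inf_le_inf_right _ inf_le_left) (le_inf (le_inf inf_le_left ?_) inf_le_right)
    exact inf_le_right.trans (centralizer_le hVU)
  rw [e1] at h2
  have hn : U ⊓ centralizer (A : Set G) ≤ centralizer (V : Set G) := fun x hx =>
    mem_centralizer_iff.2 fun v hv => hU v (hVU hv) x hx.1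
  have hle : V ⊔ (U ⊓ centralizer (A : Set G)) ≤ U ⊓ centralizer (A₀ : Set G) := by
    refine sup_le (le_inf hVU ?_) (inf_le_inf_left _ (centralizer_le inf_le_left))
    rw [le_centralizer_iff]
    exact inf_le_right
  have h3 : Nat.card V * Nat.card ↥(U ⊓ centralizer (A : Set G)) ≤
      Nat.card ↥(U ⊓ centralizer (A₀ : Set G)) * Nat.card ↥(V ⊓ centralizer (A : Set G)) := by
    have h4 := Cfsg.Agent.PLocal.ElemAbSup.card_sup_mul_card_inf hn
    have h5 := Subgroup.card_le_of_le hle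
    have e2 : V ⊓ (U ⊓ centralizer (A : Set G)) = V ⊓ centralizer (A : Set G) := by
      rw [← inf_assoc, inf_eq_left.2 hVU]
    rw [e2] at h4
    rw [← h4]
    exact Nat.mul_le_mul_right _ h5
  have p1 : 0 < Nat.card ↥(V ⊓ centralizer (A : Set G)) := Nat.card_pos
  have p2 : 0 < Nat.card ↥(U ⊓ centralizer (A : Set G)) := Nat.card_pos
  have key : Nat.card ↥(V ⊓ centralizer (A : Set G)) * (Nat.card U * Nat.card ↥(A ⊓ centralizer (U : Set G))) <
      Nat.card ↥(V ⊓ centralizer (A : Set G)) * (Nat.card U * Nat.card ↥(A ⊓ centralizer (U : Set G))) := by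
    calc Nat.card ↥(V ⊓ centralizer (A : Set G)) * (Nat.card U * Nat.card ↥(A ⊓ centralizer (U : Set G)))
        ≤ Nat.card ↥(V ⊓ centralizer (A : Set G)) * (Nat.card A * Nat.card ↥(U ⊓ centralizer (A : Set G))) :=
          Nat.mul_le_mul_left _ hex
      _ = (Nat.card A * Nat.card ↥(V ⊓ centralizer (A : Set G))) * Nat.card ↥(U ⊓ centralizer (A : Set G)) := by ring
      _ < (Nat.card V * Nat.card A₀) * Nat.card ↥(U ⊓ centralizer (A : Set G)) := Nat.mul_lt_mul_of_pos_right h1 p2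
      _ = Nat.card A₀ * (Nat.card V * Nat.card ↥(U ⊓ centralizer (A : Set G))) := by ring
      _ ≤ Nat.card A₀ * (Nat.card ↥(U ⊓ centralizer (A₀ : Set G)) * Nat.card ↥(V ⊓ centralizer (A : Set G))) :=
          Nat.mul_le_mul_left _ h3
      _ = (Nat.card A₀ * Nat.card ↥(U ⊓ centralizer (A₀ : Set G))) * Nat.card ↥(V ⊓ centralizer (A : Set G)) := by ring
      _ ≤ (Nat.card U * Nat.card ↥(A ⊓ centralizer (U : Set G))) * Nat.card ↥(V ⊓ centralizer (A : Set G)) :=
          Nat.mul_le_mul_right _ h2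
      _ = _ := by ring
  exact lt_irrefl _ key

/-- **LEMMA EX** for `NotFF V` -/
theorem of_notFF {A U V : Subgroup G} (hU : ∀ x ∈ U, ∀ y ∈ U, x * y = y * x) (hVU : V ≤ U)
    (hex : Nat.card U * Nat.card ↥(A ⊓ centralizer (U : Set G)) ≤ Nat.card A * Nat.card ↥(U ⊓ centralizer (A : Set G)))
    (hno : ∀ A₀ : Subgroup G, A₀ ≤ A → Nat.card A₀ * Nat.card ↥(U ⊓ centralizer (A₀ : Set G)) ≤
      Nat.card U * Nat.card ↥(A₀ ⊓ centralizer (U : Set G)))
    (hV : NO3b.EZero.NotFF V) (hA2 : IsPGroup 2 A) (hAV : A ≤ normalizer (V : Set G))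
    (hsq : ∀ a ∈ A, a ^ 2 ∈ centralizer (V : Set G))
    (hcm : ∀ a ∈ A, ∀ b ∈ A, a * b * a⁻¹ * b⁻¹ ∈ centralizer (V : Set G)) : A ≤ centralizer (V : Set G) := by
  refine le_centralizer hU hVU hex hno fun hne => ?_
  have h1 := hV A hA2 hAV hsq hcm hne
  by_contra hcon
  exact absurd h1 (not_lt.2 (FFThm.relIndex_le_iff.1 (not_lt.1 hcon)))

end Cfsg.Agent.Omega.NOThreeL.RZ.Ex
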