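import Mathlib.Algebra.Group.Subgroup.Finite
import Mathlib.Algebra.Group.Action.Basic
import Mathlib.Combinatorics.SimpleGraph.DegreeSum
import Mathlib.GroupTheory.GroupAction.Defs
import Mathlib.Tactic

/-!
# [R-z]: LEMMA EXC of helper344 (bb 24202), the counting part

`Γ` acts on the abelian group `A` and transitively on `X`, `|X|` odd; `A = l x × C x` for `x ∈ X`, `|l x| = q` even,
`|C x| = c ≥ 3`, `C x ∩ C y = 1` for `x ≠ y`; `H x ≤ Γ_x` is regular on `l x - 1` and centralises `C x`.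

* **`Sit.eq`** : `|X| = 1`.
-/

set_option autoImplicit false

namespace Cfsg.Agent.Omega.NOThreeL.RZ.Exc

universe u v w

/-- The situation of LEMMA EXC. -/
structure Sit {Γ : Type u} {A : Type v} {X : Type w} [Group Γ] [CommGroup A] [MulDistribMulAction Γ A] [MulAction Γ X]
    (l C : X → Subgroup A) (H : X → Subgroup Γ) (q c : ℕ) : Prop where
  leq : ∀ (g : Γ) (x : X), ∀ a ∈ l x, g • a ∈ l (g • x)
  Ceq : ∀ (g : Γ) (x : X), ∀ a ∈ C x, g • a ∈ C (g • x)
  dis : ∀ x, ∀ a ∈ l x, a ∈ C x → a = 1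
  span : ∀ x (a : A), ∃ u ∈ l x, ∃ v ∈ C x, a = u * v
  ti : ∀ x y, x ≠ y → ∀ a ∈ C x, a ∈ C y → a = 1
  cl : ∀ x, Nat.card (l x) = q
  cC : ∀ x, Nat.card (C x) = c
  hc : 3 ≤ c
  hq : Even q
  Hx : ∀ x, ∀ h ∈ H x, h • x = x
  HC : ∀ x, ∀ h ∈ H x, ∀ a ∈ C x, h • a = a
  tr : ∀ x, ∀ a ∈ l x, a ≠ 1 → ∀ b ∈ l x, b ≠ 1 → ∃ h ∈ H x, h • a = b
  free : ∀ x, ∀ h ∈ H x, ∀ a ∈ l x, a ≠ 1 → h • a = a → h = 1
  trans : ∀ x y : X, ∃ g : Γ, g • x = y
  odd : Odd (Nat.card X)

namespace Sit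

variable {Γ : Type u} {A : Type v} {X : Type w} [Group Γ] [CommGroup A] [MulDistribMulAction Γ A] [MulAction Γ X]
  {l C : X → Subgroup A} {H : X → Subgroup Γ} {q c : ℕ} (S : Sit l C H q c)
include S

/-- the stabiliser of `x` normalises `l x` -/
theorem l_fix {x : X} {h : Γ} (hx : h • x = x) {a : A} (ha : a ∈ l x) : h • a ∈ l x := by
  have h1 := S.leq h x a ha
  rwa [hx] at h1

theorem C_fix {x : X} {h : Γ} (hx : h • x = x) {a : A} (ha : a ∈ C x) : h • a ∈ C x := by
  have h1 := S.Ceq h x a ha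
  rwa [hx] at h1

/-- `C_A(h) = C x` for `1 ≠ h ∈ H x` -/
theorem fix_mem {x : X} {h : Γ} (hh : h ∈ H x) (h1 : h ≠ 1) {a : A} (ha : h • a = a) : a ∈ C x := by
  obtain ⟨u, hu, v, hv, rfl⟩ := S.span x a
  rw [smul_mul', S.HC x h hh v hv, mul_left_inj] at ha
  by_cases hu1 : u = 1
  · rw [hu1, one_mul]; exact hv
  · exact absurd (S.free x h hh u hu hu1 ha) h1

/-- `[A, h] ≤ l x` -/
theorem comm_mem {x : X} {h : Γ} (hh : h ∈ H x) (a : A) : (h • a) * a⁻¹ ∈ l x := by
  obtain ⟨u, hu, v, hv, rfl⟩ := S.span x a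
  rw [smul_mul', S.HC x h hh v hv]
  have e : (h • u) * v * (u * v)⁻¹ = (h • u) * u⁻¹ := by
    rw [mul_inv_rev, ← mul_assoc, mul_assoc (h • u) v v⁻¹, mul_inv_cancel, mul_one]
  rw [e]
  exact mul_mem (S.l_fix (S.Hx x h hh) hu) (inv_mem hu)

variable [Finite A]

/-- (α), first half -/
theorem le_l {x y : X} (hxy : y ≠ x) {h : Γ} (hh : h ∈ H x) (h1 : h ≠ 1) (hy : h • y = y) : C y ≤ l x := by
  let φ : C y → C y := fun a => ⟨(h • (a : A)) * (a : A)⁻¹, mul_mem (S.C_fix hy a.2) (inv_mem a.2)⟩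
  have hφ : Function.Injective φ := by
    intro a b hab
    have h2 : (h • (a : A)) * (a : A)⁻¹ = (h • (b : A)) * (b : A)⁻¹ := congrArg Subtype.val hab
    have h3 : h • ((a : A) * (b : A)⁻¹) = (a : A) * (b : A)⁻¹ := by
      rw [smul_mul', smul_inv']
      have h4 : h • (a : A) = (h • (b : A)) * (b : A)⁻¹ * a := by rw [← h2]; group
      rw [h4]
      calc h • (b : A) * (b : A)⁻¹ * a * (h • (b : A))⁻¹ = (h • (b : A)) * (h • (b : A))⁻¹ * (a * (b : A)⁻¹) := by
            simp only [mul_comm, mul_left_comm, mul_assoc]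
        _ = (a : A) * (b : A)⁻¹ := by rw [mul_inv_cancel, one_mul]
    have h4 := S.ti y x hxy _ (mul_mem a.2 (inv_mem b.2)) (S.fix_mem hh h1 h3)
    exact Subtype.ext (mul_inv_eq_one.1 h4)
  have hs := Finite.surjective_of_injective hφ
  intro b hb
  obtain ⟨a, ha⟩ := hs ⟨b, hb⟩
  have h2 : (h • (a : A)) * (a : A)⁻¹ = b := congrArg Subtype.val ha
  rw [← h2]
  exact S.comm_mem hh _

omit [Finite A] in
/-- (α), second half -/
theorem le_l' {x y : X} (hxy : y ≠ x) {h : Γ} (hh : h ∈ H x) (h1 : h ≠ 1) (hy : h • y = y) : C x ≤ l y := by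
  intro a ha
  have h2 := S.HC x h hh a ha
  obtain ⟨u, hu, v, hv, rfl⟩ := S.span y a
  have h3 : h • v = v := by
    have h4 : (h • v) * v⁻¹ = u * (h • u)⁻¹ := by
      rw [smul_mul'] at h2
      rw [mul_inv_eq_iff_eq_mul, mul_comm u, mul_assoc, ← h2, inv_mul_cancel_left]
    have h5 := S.dis y _ (mul_mem hu (inv_mem (S.l_fix hy hu))) (h4 ▸ mul_mem (S.C_fix hy hv) (inv_mem hv))
    rw [← h4] at h5
    exact mul_inv_eq_one.1 h5
  have h4 := S.ti y x hxy v hv (S.fix_mem hh h1 h3)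
  rw [h4, mul_one]
  exact hu

/-! ### counting -/

variable [Finite X]

omit [Finite X] in
/-- disjoint sets `C y - 1` in `T - 1` -/
theorem card_le (s : Finset X) (T : Subgroup A) (hs : ∀ y ∈ s, C y ≤ T) : s.card * (c - 1) + 1 ≤ Nat.card T := by
  classical
  have hA : Fintype A := Fintype.ofFinite A
  have hcard : ∀ K : Subgroup A, ((Finset.univ.filter fun a => a ∈ K).erase 1).card + 1 = Nat.card K := by
    intro K
    rw [Finset.card_erase_add_one (Finset.mem_filter.2 ⟨Finset.mem_univ _, one_mem K⟩), Nat.card_eq_fintype_card,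
      Fintype.card_subtype]
  let D : X → Finset A := fun y => (Finset.univ.filter fun a => a ∈ C y).erase 1
  have hD : ∀ y, (D y).card = c - 1 := by
    intro y
    have h1 := hcard (C y)
    rw [S.cC y] at h1
    have h2 : (D y).card + 1 = c := h1
    omega
  have hdis : ∀ x ∈ s, ∀ y ∈ s, x ≠ y → Disjoint (D x) (D y) := by
    intro x _ y _ hxy
    rw [Finset.disjoint_left]
    intro a ha hb
    obtain ⟨h1, h2⟩ := Finset.mem_erase.1 ha
    obtain ⟨-, h3⟩ := Finset.mem_erase.1 hb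
    exact h1 (S.ti x y hxy a (Finset.mem_filter.1 h2).2 (Finset.mem_filter.1 h3).2)
  have h1 : (s.biUnion D).card = s.card * (c - 1) := by
    rw [Finset.card_biUnion hdis, Finset.sum_congr rfl fun y _ => hD y, Finset.sum_const, smul_eq_mul]
  have h2 : s.biUnion D ⊆ (Finset.univ.filter fun a => a ∈ T).erase 1 := by
    intro a ha
    obtain ⟨y, hy, ha⟩ := Finset.mem_biUnion.1 ha
    obtain ⟨h3, h4⟩ := Finset.mem_erase.1 ha
    exact Finset.mem_erase.2 ⟨h3, Finset.mem_filter.2 ⟨Finset.mem_univ _, hs y hy (Finset.mem_filter.1 h4).2⟩⟩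
  have h3 := Finset.card_le_card h2
  have h4 := hcard T
  omega

omit [Finite A] [Finite X] in
/-- `|A| = q c` -/
theorem card_A (x : X) : Nat.card A = q * c := by
  rw [← S.cl x, ← S.cC x, ← Nat.card_prod]
  refine (Nat.card_congr (Equiv.ofBijective (fun p : l x × C x => (p.1 : A) * p.2) ⟨?_, ?_⟩)).symm
  · rintro ⟨u, v⟩ ⟨u', v'⟩ h
    have h1 : (u : A) * v = u' * v' := h
    have h2 : (u' : A)⁻¹ * u = v' * (v : A)⁻¹ := by
      rw [inv_mul_eq_iff_eq_mul, ← mul_assoc, ← h1, mul_inv_cancel_right]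
    have h3 := S.dis x _ (mul_mem (inv_mem u'.2) u.2) (h2 ▸ mul_mem v'.2 (inv_mem v.2))
    have h4 : (u : A) = u' := (inv_mul_eq_one.1 h3).symm
    have h5 : (v : A) = v' := by
      rw [h4] at h1
      exact mul_left_cancel h1
    exact Prod.ext (Subtype.ext h4) (Subtype.ext h5)
  · intro a
    obtain ⟨u, hu, v, hv, rfl⟩ := S.span x a
    exact ⟨(⟨u, hu⟩, ⟨v, hv⟩), rfl⟩

omit [Finite X] in
/-- `c ≤ q` -/
theorem c_le {x y : X} (hxy : x ≠ y) : c ≤ q := by
  have h1 : Nat.card (C x × C y) ≤ Nat.card A := by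
    refine Nat.card_le_card_of_injective (fun p : C x × C y => (p.1 : A) * p.2) ?_
    rintro ⟨u, v⟩ ⟨u', v'⟩ h
    have h1 : (u : A) * v = u' * v' := h
    have h2 : (u' : A)⁻¹ * u = v' * (v : A)⁻¹ := by
      rw [inv_mul_eq_iff_eq_mul, ← mul_assoc, ← h1, mul_inv_cancel_right]
    have h3 := S.ti x y hxy _ (mul_mem (inv_mem u'.2) u.2) (h2 ▸ mul_mem v'.2 (inv_mem v.2))
    have h4 : (u : A) = u' := (inv_mul_eq_one.1 h3).symm
    have h5 : (v : A) = v' := by
      rw [h4] at h1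
      exact mul_left_cancel h1
    exact Prod.ext (Subtype.ext h4) (Subtype.ext h5)
  rw [Nat.card_prod, S.cC, S.cC, S.card_A x] at h1
  exact Nat.le_of_mul_le_mul_right h1 (by have := S.hc; omega)

omit [Finite X] in
/-- `|H x| = q - 1` -/
theorem card_H (x : X) (hq : 1 < q) : Nat.card (H x) = q - 1 := by
  have hl : ∃ a ∈ l x, a ≠ 1 := by
    by_contra hcon
    push Not at hcon
    have h1 : l x = ⊥ := (Subgroup.eq_bot_iff_forall _).2 hcon
    have h2 := S.cl x
    rw [h1, Subgroup.card_bot] at h2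
    omega
  obtain ⟨a, ha, ha1⟩ := hl
  have h1 : Nat.card (H x) = Nat.card {b : l x // b ≠ 1} := by
    refine Nat.card_congr (Equiv.ofBijective (fun h : H x =>
      (⟨⟨(h : Γ) • a, S.l_fix (S.Hx x h h.2) ha⟩, fun h0 => ha1 ?_⟩ : {b : l x // b ≠ 1})) ⟨?_, ?_⟩)
    · have h2 : (h : Γ) • a = 1 := congrArg Subtype.val h0
      have h3 : (h : Γ) • a = (h : Γ) • (1 : A) := by rw [h2, smul_one]
      exact smul_left_cancel _ h3
    · intro h k hk
      have h2 : (h : Γ) • a = (k : Γ) • a := congrArg (fun z => ((z : {b : l x // b ≠ 1}) : A)) hk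
      have h3 : ((k : Γ)⁻¹ * h) • a = a := by rw [mul_smul, h2, inv_smul_smul]
      have h4 := S.free x _ (mul_mem (inv_mem k.2) h.2) a ha ha1 h3
      exact Subtype.ext (inv_mul_eq_one.1 h4).symm
    · rintro ⟨⟨b, hb⟩, hb1⟩
      obtain ⟨h, hh, e⟩ := S.tr x a ha ha1 b hb fun h0 => hb1 (Subtype.ext h0)
      exact ⟨⟨h, hh⟩, Subtype.ext (Subtype.ext e)⟩
  rw [h1]
  have h2 : Nat.card {b : l x // b ≠ 1} + 1 = Nat.card (l x) := by
    classical
    have hA : Fintype (l x) := Fintype.ofFinite _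
    rw [Nat.card_eq_fintype_card, Nat.card_eq_fintype_card, Fintype.card_subtype_compl, Fintype.card_subtype_eq]
    have : 0 < Fintype.card (l x) := Fintype.card_pos
    omega
  rw [S.cl x] at h2
  omega

omit [Finite A] [Finite X] in
theorem mem_E {x y : X} (g : Γ) (h : C y ≤ l x) : C (g • y) ≤ l (g • x) := by
  intro a ha
  have h1 := S.Ceq g⁻¹ (g • y) a ha
  rw [inv_smul_smul] at h1
  have h2 := S.leq g x _ (h h1)
  rwa [smul_inv_smul] at h2

omit [Finite A] [Finite X] in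
theorem mem_E' {x y : X} {h : Γ} (hh : h ∈ H x) (hy : C y ≤ l x) : C (h • y) ≤ l x := by
  have h1 := S.mem_E h hy
  rwa [S.Hx x h hh] at h1

omit [Finite A] [Finite X] in
theorem ne_of {x y : X} {h : Γ} (hh : h ∈ H x) (hy : y ≠ x) : h • y ≠ x := by
  intro h0
  apply hy
  rw [← S.Hx x h hh] at h0
  exact smul_left_cancel _ h0

/-- (α), converse: the relation is symmetric -/
theorem symm {x y : X} (hxy : y ≠ x) (hy : C y ≤ l x) : C x ≤ l y := by
  classical
  have hX : Fintype X := Fintype.ofFinite X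
  have hqc := S.c_le hxy
  have hc := S.hc
  have hH := S.card_H x (by omega)
  have h1 := S.card_le (Finset.univ.filter fun z => z ≠ x ∧ C z ≤ l x) (l x) fun z hz => (Finset.mem_filter.1 hz).2.2
  rw [S.cl x] at h1
  set e := (Finset.univ.filter fun z => z ≠ x ∧ C z ≤ l x).card with he
  have h2 : e < q - 1 := by
    by_contra hcon
    have h3 : (q - 1) * 2 ≤ e * (c - 1) := Nat.mul_le_mul (not_lt.1 hcon) (by omega)
    omega
  by_contra hn
  have hinj : Function.Injective fun h : H x => (⟨(h : Γ) • y, S.ne_of h.2 hxy, S.mem_E' h.2 hy⟩ :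
      {z : X // z ≠ x ∧ C z ≤ l x}) := by
    intro h k hk
    have h3 : (h : Γ) • y = (k : Γ) • y := congrArg Subtype.val hk
    have h4 : ((k : Γ)⁻¹ * h) • y = y := by rw [mul_smul, h3, inv_smul_smul]
    by_contra h5
    exact hn (S.le_l' hxy (mul_mem (inv_mem k.2) h.2) (fun h6 => h5 (Subtype.ext (inv_mul_eq_one.1 h6).symm)) h4)
  have h3 := Nat.card_le_card_of_injective _ hinj
  rw [hH, Nat.card_eq_fintype_card, Fintype.card_subtype] at h3
  omega

omit [Finite A] [Finite X] in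
/-- the degrees are equal -/
theorem card_E (x x' : X) : Nat.card {z : X // z ≠ x ∧ C z ≤ l x} = Nat.card {z : X // z ≠ x' ∧ C z ≤ l x'} := by
  obtain ⟨g, rfl⟩ := S.trans x x'
  refine Nat.card_congr ⟨fun z => ⟨g • (z : X), fun h => z.2.1 (smul_left_cancel _ h), S.mem_E g z.2.2⟩,
    fun z => ⟨g⁻¹ • (z : X), fun h => z.2.1 ?_, ?_⟩, fun z => Subtype.ext (inv_smul_smul g _),
    fun z => Subtype.ext (smul_inv_smul g _)⟩
  · exact inv_smul_eq_iff.1 h
  · have h3 := S.mem_E g⁻¹ z.2.2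
    rwa [inv_smul_smul] at h3

/-- the degree is even (handshake) -/
theorem even_E (x : X) : Even (Nat.card {z : X // z ≠ x ∧ C z ≤ l x}) := by
  classical
  have hX : Fintype X := Fintype.ofFinite X
  let Gr : SimpleGraph X :=
    { Adj := fun a b => b ≠ a ∧ C b ≤ l a
      symm := ⟨fun a b h => ⟨h.1.symm, S.symm h.1 h.2⟩⟩
      loopless := ⟨fun a h => h.1 rfl⟩ }
  have h1 := Gr.sum_degrees_eq_twice_card_edges
  have h2 : ∀ v : X, Gr.degree v = Nat.card {z : X // z ≠ x ∧ C z ≤ l x} := by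
    intro v
    rw [S.card_E x v, ← SimpleGraph.card_neighborSet_eq_degree, ← Nat.card_eq_fintype_card]
    rfl
  rw [Finset.sum_congr rfl fun v _ => h2 v, Finset.sum_const, smul_eq_mul, Finset.card_univ] at h1
  have h3 := S.odd
  rw [Nat.card_eq_fintype_card] at h3
  have h4 : Even (Fintype.card X * Nat.card {z : X // z ≠ x ∧ C z ≤ l x}) := ⟨_, h1.trans (two_mul _)⟩
  exact (Nat.even_mul.1 h4).resolve_left (Nat.not_even_iff_odd.2 h3)

/-- **LEMMA EXC** : `|X| = 1`. -/
theorem eq (x y : X) : x = y := by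
  classical
  by_contra hxy
  have hX : Fintype X := Fintype.ofFinite X
  have hA : Fintype A := Fintype.ofFinite A
  have hc := S.hc
  have hqc := S.c_le hxy
  have hH := S.card_H x (by omega)
  have hfH : Finite (H x) := Nat.finite_of_card_ne_zero (by omega)
  have hFH : Fintype (H x) := Fintype.ofFinite _
  have heven := S.even_E x
  have hq := S.hq
  have hodd := S.odd
  rw [Nat.card_eq_fintype_card] at hodd
  rw [Nat.card_eq_fintype_card, Fintype.card_subtype] at heven
  set E : Finset X := Finset.univ.filter fun z => z ≠ x ∧ C z ≤ l x with hE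
  set M : Finset X := Finset.univ.filter fun z => z ≠ x ∧ ¬ C z ≤ l x with hM
  have hN : Fintype.card X = 1 + E.card + M.card := by
    have h1 : (Finset.univ : Finset X) = insert x (E ∪ M) := by
      ext z
      simp only [Finset.mem_univ, true_iff, Finset.mem_insert, Finset.mem_union, hE, hM, Finset.mem_filter, true_and]
      by_cases h1 : z = x
      · exact Or.inl h1
      · by_cases h2 : C z ≤ l x
        · exact Or.inr (Or.inl ⟨h1, h2⟩)
        · exact Or.inr (Or.inr ⟨h1, h2⟩)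
    have h2 : x ∉ E ∪ M := by
      simp [hE, hM]
    have h3 : Disjoint E M := by
      rw [Finset.disjoint_left]
      intro z h3 h4
      exact (Finset.mem_filter.1 h4).2.2 (Finset.mem_filter.1 h3).2.2
    rw [← Finset.card_univ, h1, Finset.card_insert_of_notMem h2, Finset.card_union_of_disjoint h3]
    ring
  have hEq := S.card_le E (l x) fun z hz => (Finset.mem_filter.1 hz).2.2
  rw [S.cl x] at hEq
  have hAll := S.card_le Finset.univ ⊤ fun z _ => le_top
  rw [Subgroup.card_top, S.card_A x, Finset.card_univ] at hAll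
  -- orbits in `M`
  let O : X → Finset X := fun z => (Finset.univ : Finset (H x)).image fun h : H x => (h : Γ) • z
  have hO : ∀ z, ∀ w ∈ O z, ∃ h ∈ H x, h • z = w := by
    intro z w hw
    obtain ⟨h, -, rfl⟩ := Finset.mem_image.1 hw
    exact ⟨h, h.2, rfl⟩
  have hOM : ∀ z ∈ M, O z ⊆ M := by
    intro z hz w hw
    obtain ⟨h, hh, rfl⟩ := hO z w hw
    obtain ⟨h1, h2⟩ := (Finset.mem_filter.1 hz).2
    refine Finset.mem_filter.2 ⟨Finset.mem_univ _, S.ne_of hh h1, fun h3 => h2 ?_⟩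
    have h4 := S.mem_E' (inv_mem hh) h3
    rwa [inv_smul_smul] at h4
  have hOc : ∀ z ∈ M, (O z).card = q - 1 := by
    intro z hz
    obtain ⟨h1, h2⟩ := (Finset.mem_filter.1 hz).2
    rw [Finset.card_image_of_injective, Finset.card_univ, ← Nat.card_eq_fintype_card, hH]
    intro h k hk
    have h3 : (h : Γ) • z = (k : Γ) • z := hk
    have h4 : ((k : Γ)⁻¹ * h) • z = z := by rw [mul_smul, h3, inv_smul_smul]
    by_contra h5
    exact h2 (S.le_l h1 (mul_mem (inv_mem k.2) h.2) (fun h6 => h5 (Subtype.ext (inv_mul_eq_one.1 h6).symm)) h4)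
  rcases Finset.eq_empty_or_nonempty M with hM0 | ⟨z, hz⟩
  · -- `X = {x} ∪ E`
    rw [hM0, Finset.card_empty] at hN
    have hy : y ∈ E := by
      refine Finset.mem_filter.2 ⟨Finset.mem_univ _, fun h => hxy h.symm, ?_⟩
      by_contra h1
      have h2 : y ∈ M := Finset.mem_filter.2 ⟨Finset.mem_univ _, fun h => hxy h.symm, h1⟩
      rw [hM0] at h2
      exact Finset.notMem_empty _ h2
    -- the sets `C z - 1` fill `l x - 1`
    obtain ⟨a, ha, ha1⟩ : ∃ a ∈ C y, a ≠ 1 := by
      by_contra hcon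
      push Not at hcon
      have h1 : C y = ⊥ := (Subgroup.eq_bot_iff_forall _).2 hcon
      have h2 := S.cC y
      rw [h1, Subgroup.card_bot] at h2
      omega
    have hfill : ((Finset.univ.filter fun b => b ∈ l x).erase 1) ⊆
        E.biUnion fun z => (Finset.univ.filter fun b => b ∈ C z).erase 1 := by
      intro b hb
      obtain ⟨hb1, hb⟩ := Finset.mem_erase.1 hb
      obtain ⟨h, hh, e⟩ := S.tr x a ((Finset.mem_filter.1 hy).2.2 ha) ha1 b (Finset.mem_filter.1 hb).2 hb1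
      refine Finset.mem_biUnion.2 ⟨h • y, ?_, Finset.mem_erase.2 ⟨hb1, Finset.mem_filter.2 ⟨Finset.mem_univ _, ?_⟩⟩⟩
      · exact Finset.mem_filter.2 ⟨Finset.mem_univ _, S.ne_of hh (Finset.mem_filter.1 hy).2.1,
          S.mem_E' hh (Finset.mem_filter.1 hy).2.2⟩
      · rw [← e]
        exact S.Ceq h y a ha
    have hcard : ∀ K : Subgroup A, ((Finset.univ.filter fun a => a ∈ K).erase 1).card + 1 = Nat.card K := by
      intro K
      rw [Finset.card_erase_add_one (Finset.mem_filter.2 ⟨Finset.mem_univ _, one_mem K⟩), Nat.card_eq_fintype_card,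
        Fintype.card_subtype]
    have h1 := (Finset.card_le_card hfill).trans Finset.card_biUnion_le
    have h2 : ∀ z ∈ E, ((Finset.univ.filter fun b => b ∈ C z).erase 1).card = c - 1 := by
      intro z _
      have h3 := hcard (C z)
      rw [S.cC z] at h3
      omega
    rw [Finset.sum_congr rfl h2, Finset.sum_const, smul_eq_mul] at h1
    have h3 := hcard (l x)
    rw [S.cl x] at h3
    have h4 : E.card * (c - 1) + 1 = q := by omega
    rw [hN] at hodd
    obtain ⟨m, hm⟩ := heven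
    have h5 : Even (E.card * (c - 1)) := ⟨m * (c - 1), by rw [hm]; ring⟩
    rw [← h4] at hq
    obtain ⟨m', hm'⟩ := h5
    obtain ⟨m'', hm''⟩ := hq
    omega
  · by_cases hOz : O z = M
    · -- one orbit
      have h1 := hOc z hz
      rw [hOz] at h1
      rw [hN, h1] at hodd
      obtain ⟨m, hm⟩ := heven
      obtain ⟨m', hm'⟩ := hq
      obtain ⟨m'', hm''⟩ := hodd
      omega
    · -- two orbits
      obtain ⟨w, hw, hwO⟩ : ∃ w ∈ M, w ∉ O z := by
        by_contra hcon
        push Not at hcon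
        exact hOz (Finset.Subset.antisymm (hOM z hz) hcon)
      have hdis : Disjoint (O z) (O w) := by
        rw [Finset.disjoint_left]
        intro v hv hv'
        obtain ⟨h, hh, e⟩ := hO z v hv
        obtain ⟨k, hk, e'⟩ := hO w v hv'
        apply hwO
        refine Finset.mem_image.2 ⟨⟨k⁻¹ * h, mul_mem (inv_mem hk) hh⟩, Finset.mem_univ _, ?_⟩
        change (k⁻¹ * h) • z = w
        rw [mul_smul, e, ← e', inv_smul_smul]
      have h1 : (O z ∪ O w).card ≤ M.card := Finset.card_le_card (Finset.union_subset (hOM z hz) (hOM w hw))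
      rw [Finset.card_union_of_disjoint hdis, hOc z hz, hOc w hw] at h1
      obtain ⟨d, hd⟩ : ∃ d, c = d + 3 := ⟨c - 3, by omega⟩
      obtain ⟨f, hf⟩ : ∃ f, q = d + 3 + f := ⟨q - c, by omega⟩
      have h2 : 2 * q - 1 ≤ Fintype.card X := by omega
      have h3 : (2 * q - 1) * (c - 1) + 1 ≤ q * c := (Nat.add_le_add_right (Nat.mul_le_mul_right _ h2) 1).trans hAll
      subst hd
      have e1 : d + 3 - 1 = d + 2 := by omega
      have e2 : 2 * q - 1 = 2 * d + 5 + 2 * f := by omega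
      rw [e1, e2, hf] at h3
      nlinarith

end Sit

end Cfsg.Agent.Omega.NOThreeL.RZ.Exc
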