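import Cfsg.Agent.Omega.NOThreeL.RZ.Frame
import Cfsg.Agent.Omega.NOThreeL.RLow.Final

/-!
# NO-3L, box R, case [R-z]: the frame exists

* `frm (h : RB S) (hR : RR S ≠ ⊥) : Frm S (RR S ⊓ zc S) (RR S)`;
* `lowL : ⟨Z^L⟩ ≤ Q`, `L = LL S (RR S)`.
-/

set_option autoImplicit false

namespace Cfsg.Agent.Omega.NOThreeL.RZ

open Subgroup Cfsg
open Cfsg.Agent.ZN (o2 zc zl)
open Cfsg.Agent.Omega.MinPar Cfsg.Agent.Omega.Frame Cfsg.Agent.Omega.FrameNOFF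
open Cfsg.Agent.Omega.Node.NO3L
open Cfsg.Agent.Omega.NOThreeL.RTree (RB)

universe u

variable {G : Type u} [Group G] [Finite G] {S : Sylow 2 G}

/-- **The frame of [R-z].** -/
theorem frm (h : RB S) (hR : RR (S : Subgroup G) ≠ ⊥) :
    Frm S (RR (S : Subgroup G) ⊓ zc (S : Subgroup G)) (RR (S : Subgroup G)) :=
  frm_of h (RLow.rr_le h.ctx h.full h.data h.notA h.ex) hR

/-- `⟨Z^L⟩ ≤ Q` -/
theorem lowL (h : RB S) (hR : RR (S : Subgroup G) ≠ ⊥) :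
    zl (S : Subgroup G) (LL (S : Subgroup G) (RR (S : Subgroup G))) ≤ o2 (CZ (S : Subgroup G)) :=
  RLow.zl_LL_le h.ctx h.full h.data h.notA h.ex hR

end Cfsg.Agent.Omega.NOThreeL.RZ
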