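import Cfsg.Agent.Omega.NOThreeL.RZ.Fact
import Cfsg.Agent.MinSimple.Geo

/-!
# NO-3L, box R: the frame of [R-z], case (II), over variables `(R, V)` (helper319, THEOREM A; helper513 #24309, #24705)

`FrmV S Z₀ R V` : `R` is `⟨P*(S)⟩`-invariant, generated by the conjugates of `Z₀ = R ∩ Z`, `R ≤ V`, `Z ≤ V ∈ NN(S)`, `V` is
normalised by `N_G(S)` and by all `P ∈ P*(S)` with `C_S(R) ≤ O₂(P)`, `C_Z(C_Y(R)) = Z₀`. (`R ∈ NN(S)` is not required.)

* `Frm.toV` : `Frm S Z₀ R` gives `FrmV S Z₀ R ⟨Z^L⟩`;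
* the lemmas of `RZ/Frame` and of FACT 1 (helper616, `RZ/Fact`), same names: `act_of`, `cent_of`, `dich`, `nonLocL`,
  `LL_ex`, `S_le_LL`, `LL_cs`, `V_LL`, `ys_eq`, `zc_eq`, `Vstar_eq`, `genB`, `ysB`, `nSB`, `le_LL_of`, `spl_iff`,
  `cent_of_mul`;
* `VL_le_V`, `Vstar_le` : `⟨Z^L⟩ ≤ V`, `V* ≤ ⟨V^D⟩`.
-/

set_option autoImplicit false

namespace Cfsg.Agent.Omega.NOThreeL.RZ

open Subgroup Cfsg
open Cfsg.Agent.ZN (o2 zc zl jj)
open Cfsg.Agent.ZN.ChoiceBase hiding mem_zc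
open Cfsg.Agent.Omega.MinPar Cfsg.Agent.Omega.Frame Cfsg.Agent.Omega.FrameNOFF
open Cfsg.Agent.Omega.Node.NO3L Cfsg.Agent.Omega.NOThreeL.Basic Cfsg.Agent.Omega.NOThreeL.Main
open Cfsg.Agent.Omega.NO3b.EZero (NotFF)
open Cfsg.Agent.Omega.NO3b.Bang
open Cfsg.Agent.Omega.NO1.BestOff (Best exists_best)
open Cfsg.Agent.Omega.NOThreeL.Star (YS le_YS S_le_YS zl_mono)
open Cfsg.Agent.MinSimple.VModule (zc_le_zl le_normalizer_zl zl_le zc_le mem_zc le_centralizer_zc zc_sq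
  le_normalizer_o2 o2_isPGroup o2_le le_o2 normalizer_le_normalizer_zc)
open scoped Pointwise commutatorElement

universe u

variable {G : Type u} [Group G]

/-- **The frame of case (II)** over variables `R`, `V`. -/
structure FrmV [Finite G] (S : Sylow 2 G) (Z₀ R V : Subgroup G) : Prop where
  ctx : Ctx G
  full : Full (S : Subgroup G)
  data : Data (S : Subgroup G)
  notA : ¬ CaseA (S : Subgroup G)
  eq : Z₀ = R ⊓ zc (S : Subgroup G)
  ne : R ≠ ⊥
  ys : YS (S : Subgroup G) ≤ normalizer (R : Set G)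
  gen : R = NoFF.Basic.V Z₀ (YS (S : Subgroup G))
  nn : NN (S : Subgroup G) V
  ZV : zc (S : Subgroup G) ≤ V
  RV : R ≤ V
  nS : normalizer ((S : Subgroup G) : Set G) ≤ normalizer (R : Set G)
  nSV : normalizer ((S : Subgroup G) : Set G) ≤ normalizer (V : Set G)
  lV : ∀ P : Subgroup G, IsParS (S : Subgroup G) P → (S : Subgroup G) ⊓ centralizer (R : Set G) ≤ o2 P →
    P ≤ normalizer (V : Set G)
  fixD : zc (S : Subgroup G) ⊓ centralizer (DD (S : Subgroup G) R : Set G) = Z₀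

namespace FrmV

variable [Finite G] {S : Sylow 2 G} {Z₀ R V : Subgroup G} (h : FrmV S Z₀ R V)
include h

theorem Z_le : Z₀ ≤ R := h.eq.le.trans inf_le_left

theorem Z_le_zc : Z₀ ≤ zc (S : Subgroup G) := h.eq.le.trans inf_le_right

theorem par {P : Subgroup G} (hP : IsParS (S : Subgroup G) P) : P ≤ normalizer (R : Set G) := (le_YS hP).trans h.ys

theorem S_le_ys : (S : Subgroup G) ≤ YS (S : Subgroup G) := S_le_YS h.ctx h.full

theorem S_le : (S : Subgroup G) ≤ normalizer (R : Set G) := h.S_le_ys.trans h.ys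

theorem R_le : R ≤ (S : Subgroup G) := h.RV.trans h.nn.le

theorem pg : IsPGroup 2 R := S.isPGroup'.to_le h.R_le

theorem sqR : ∀ v ∈ R, v ^ 2 = 1 := fun v hv => h.nn.sq v (h.RV hv)

theorem le_zl : R ≤ zl (S : Subgroup G) (YS S) := by
  conv_lhs => rw [h.gen]
  exact V_le_of (h.Z_le_zc.trans (zc_le_zl _ _)) (le_normalizer_zl _ _)

/-- `R = ⟨Z₀^{N_G(R)}⟩` -/
theorem genN : R = NoFF.Basic.V Z₀ (normalizer (R : Set G)) := by
  apply le_antisymm
  · conv_lhs => rw [h.gen]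
    exact V_mono le_rfl h.ys
  · exact V_le_of h.Z_le le_rfl

/-- `C_R(S) = Z₀` -/
theorem fix {v : G} (hv : v ∈ R) (hs : ∀ s ∈ (S : Subgroup G), v * s = s * v) : v ∈ Z₀ := by
  rw [h.eq]
  exact ⟨hv, mem_zc.2 ⟨h.R_le hv, fun s hs' => (hs s hs').symm, h.sqR v hv⟩⟩

theorem Z_ne : Z₀ ≠ ⊥ := by
  intro h0
  have h1 : R = ⊥ := by
    rw [h.gen, h0, eq_bot_iff]
    refine NoFF.Basic.V_le fun p _ => ?_
    rw [show MulAut.conj p • (⊥ : Subgroup G) = ⊥ from Subgroup.map_bot _]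
  exact h.ne h1

/-- `Y` normalises `C_G(R)` -/
theorem ys_cent : YS (S : Subgroup G) ≤ normalizer ((centralizer (R : Set G) : Subgroup G) : Set G) := by
  intro y hy
  rw [mem_normalizer_iff_cj, cj_centralizer, cj_eq_of_mem_normalizer (h.ys hy)]

/-- `N_G(S) ≤ N_G(Z₀)` -/
theorem nSZ : normalizer ((S : Subgroup G) : Set G) ≤ normalizer (Z₀ : Set G) := by
  intro n hn
  rw [mem_normalizer_iff_cj, h.eq, cj_inf, cj_eq_of_mem_normalizer (h.nS hn),
    cj_eq_of_mem_normalizer (normalizer_le_normalizer_zc _ hn)]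

/-- Otherwise `P = C_P(R) S`. -/
theorem act_of {P : Subgroup G} (hP : IsParS (S : Subgroup G) P)
    (h1 : ¬ (S : Subgroup G) ⊓ centralizer (R : Set G) ≤ o2 P) : P ⊓ centralizer (R : Set G) ⊔ (S : Subgroup G) = P := by
  have hn : P ≤ normalizer ((P ⊓ centralizer (R : Set G) : Subgroup G) : Set G) := by
    intro p hp
    rw [mem_normalizer_iff_cj, cj_inf, cj_centralizer, cj_eq_of_mem_normalizer (le_normalizer hp),
      cj_eq_of_mem_normalizer (h.par hP hp)]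
  rcases hP.toIsPar.sup_eq_or_inf_le S inf_le_left hn with h2 | h2
  · exact h2
  · exfalso
    refine h1 (le_trans ?_ h2)
    exact le_inf inf_le_left (le_inf (inf_le_left.trans hP.le) inf_le_right)

/-- Otherwise `P ≤ C_G(Z₀)`. -/
theorem cent_of {P : Subgroup G} (hP : IsParS (S : Subgroup G) P)
    (h1 : ¬ (S : Subgroup G) ⊓ centralizer (R : Set G) ≤ o2 P) : P ≤ centralizer (Z₀ : Set G) := by
  rw [← h.act_of hP h1]
  refine sup_le (inf_le_right.trans (centralizer_le h.Z_le)) ?_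
  exact (le_CZ S).trans (centralizer_le h.Z_le_zc)

theorem dich {P : Subgroup G} (hP : IsParS (S : Subgroup G) P) : P ≤ LL (S : Subgroup G) R ∨
    P ≤ centralizer (Z₀ : Set G) := by
  by_cases h1 : (S : Subgroup G) ⊓ centralizer (R : Set G) ≤ o2 P
  · exact Or.inl (le_sSup ⟨hP, h1⟩)
  · exact Or.inr (h.cent_of hP h1)

theorem CZ_le : CZ (S : Subgroup G) ≤ centralizer (Z₀ : Set G) := centralizer_le h.Z_le_zc

/-- **`⟨L, C_G(Z₀)⟩` is nonlocal.** -/
theorem nonLocL {U : Subgroup G} (hU : IsPGroup 2 U) (h1 : LL (S : Subgroup G) R ≤ normalizer (U : Set G))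
    (h2 : centralizer (Z₀ : Set G) ≤ normalizer (U : Set G)) : U = ⊥ := by
  refine eq_bot_of_norm h.ctx S h.full hU (fun P hP => ?_) (h.CZ_le.trans h2)
  rcases h.dich hP with h3 | h3
  · exact h3.trans h1
  · exact h3.trans h2

omit h [Finite G] in
theorem LL_le_ys : LL (S : Subgroup G) R ≤ YS (S : Subgroup G) := sSup_le fun _ hP => le_YS hP.1

theorem LL_le : LL (S : Subgroup G) R ≤ normalizer (R : Set G) := LL_le_ys.trans h.ys

/-- **`⟨N_G(R), C_G(Z₀)⟩` is nonlocal.** -/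
theorem nonLoc {U : Subgroup G} (hU : IsPGroup 2 U) (h1 : normalizer (R : Set G) ≤ normalizer (U : Set G))
    (h2 : centralizer (Z₀ : Set G) ≤ normalizer (U : Set G)) : U = ⊥ :=
  h.nonLocL hU (h.LL_le.trans h1) h2

theorem LL_ex : ∃ P, IsParS (S : Subgroup G) P ∧ (S : Subgroup G) ⊓ centralizer (R : Set G) ≤ o2 P := by
  by_contra hcon
  have h0 : Z₀ = ⊥ := by
    refine h.nonLocL (S.isPGroup'.to_le (h.Z_le.trans h.R_le)) ?_ (centralizer_le_normalizer _)
    refine sSup_le fun P hP => ?_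
    exact absurd ⟨P, hP⟩ hcon
  exact h.Z_ne h0

theorem S_le_LL : (S : Subgroup G) ≤ LL (S : Subgroup G) R := by
  obtain ⟨P, hP, h1⟩ := h.LL_ex
  exact hP.le.trans (le_sSup ⟨hP, h1⟩)

/-- `C_S(R)` is normal in `L`. -/
theorem LL_cs : LL (S : Subgroup G) R ≤
    normalizer (((S : Subgroup G) ⊓ centralizer (R : Set G) : Subgroup G) : Set G) := by
  refine sSup_le ?_
  rintro P ⟨hP, h1⟩
  have e : (S : Subgroup G) ⊓ centralizer (R : Set G) = o2 P ⊓ centralizer (R : Set G) :=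
    le_antisymm (le_inf h1 inf_le_right) (inf_le_inf_right _ (hP.isLoc.o2_le S))
  rw [e]
  intro p hp
  rw [mem_normalizer_iff_cj, cj_inf, cj_centralizer, cj_eq_of_mem_normalizer (le_normalizer_o2 P hp),
    cj_eq_of_mem_normalizer (h.par hP hp)]

/-- `R = ⟨Z₀^L⟩` -/
theorem V_LL : NoFF.Basic.V Z₀ (LL (S : Subgroup G) R) = R := by
  refine le_antisymm (V_le_of h.Z_le h.LL_le) ?_
  conv_lhs => rw [h.gen]
  refine V_le_of (RZ.Z_le _ _) ?_
  refine sSup_le fun P hP => ?_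
  by_cases h1 : (S : Subgroup G) ⊓ centralizer (R : Set G) ≤ o2 P
  · exact (show P ≤ LL (S : Subgroup G) R from le_sSup ⟨hP, h1⟩).trans (le_norm_V _ _)
  · rw [← h.act_of hP h1]
    refine sup_le ?_ (h.S_le_LL.trans (le_norm_V _ _))
    refine inf_le_right.trans ?_
    exact (centralizer_le (V_le_of h.Z_le h.LL_le)).trans (centralizer_le_normalizer _)

/-- **`C_R(N_G(R)) = 1`** -/
theorem cN : R ⊓ centralizer ((normalizer (R : Set G) : Subgroup G) : Set G) = ⊥ := by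
  refine h.nonLoc (h.pg.to_le inf_le_left) ?_ ?_
  · refine le_trans ?_ (centralizer_le_normalizer _)
    intro g hg
    rw [mem_centralizer_iff]
    intro v hv
    exact (mem_centralizer_iff.1 hv.2 g hg).symm
  · refine le_trans (centralizer_le ?_) (centralizer_le_normalizer _)
    intro v hv
    refine h.fix hv.1 fun s hs => ?_
    exact (mem_centralizer_iff.1 hv.2 s (h.S_le hs)).symm

/-- **`C_G(Z) ≰ N_G(R)`** -/
theorem flag : ¬ centralizer (zc (S : Subgroup G) : Set G) ≤ normalizer (R : Set G) := by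
  intro hC
  exact h.ne (eq_bot_of_norm h.ctx S h.full h.pg (fun P hP => h.par hP) hC)

theorem VsC : zl (S : Subgroup G) (YS S) ≤ centralizer (zl (S : Subgroup G) (YS S) : Set G) :=
  Star.zl_comm h.ctx.char2 h.data.noff

theorem VsSq : ∀ v ∈ zl (S : Subgroup G) (YS S), v ^ 2 = 1 := Star.zl_sq h.ctx.char2 h.data.noff

theorem VsP : IsPGroup 2 (zl (S : Subgroup G) (YS S)) := fun x => ⟨1, Subtype.ext (by simpa using h.VsSq x x.2)⟩

theorem VsS : zl (S : Subgroup G) (YS S) ≤ (S : Subgroup G) :=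
  le_of_le_normalizer S h.VsP (h.S_le_ys.trans (le_normalizer_zl _ _))

theorem VsFix {v : G} (hv : v ∈ zl (S : Subgroup G) (YS S)) (hs : ∀ s ∈ (S : Subgroup G), s * v = v * s) :
    v ∈ zc (S : Subgroup G) := mem_zc.2 ⟨h.VsS hv, hs, h.VsSq v hv⟩

omit h [Finite G] in
theorem VL_le : zl (S : Subgroup G) (LL (S : Subgroup G) R) ≤ zl (S : Subgroup G) (YS S) :=
  Star.zl_mono _ LL_le_ys

theorem R_le_VL : R ≤ zl (S : Subgroup G) (LL (S : Subgroup G) R) := by
  conv_lhs => rw [← h.V_LL]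
  exact V_le_of (h.Z_le_zc.trans (zc_le_zl _ _)) (le_normalizer_zl _ _)

/-- `C_S(R)` centralises `V_L = ⟨Z^L⟩`. -/
theorem cs_cent : (S : Subgroup G) ⊓ centralizer (R : Set G) ≤
    centralizer (zl (S : Subgroup G) (LL (S : Subgroup G) R) : Set G) := by
  apply cent_symm
  refine zl_le ?_ (norm_cent h.LL_cs)
  intro z hz
  rw [mem_centralizer_iff]
  intro s hs
  exact (mem_zc.1 hz).2.1 s hs.1

theorem ysD : YS (S : Subgroup G) ≤ normalizer (DD (S : Subgroup G) R : Set G) := by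
  intro y hy
  rw [mem_normalizer_iff_cj, DD, cj_inf, cj_eq_of_mem_normalizer (le_normalizer hy), cj_centralizer,
    cj_eq_of_mem_normalizer (h.ys hy)]

omit h [Finite G] in
theorem DD_le : DD (S : Subgroup G) R ≤ YS S := inf_le_left

omit h [Finite G] in
theorem DD_cent : DD (S : Subgroup G) R ≤ centralizer (R : Set G) := inf_le_right

/-- **`Y = L D`** -/
theorem ys_eq : YS (S : Subgroup G) = LL (S : Subgroup G) R ⊔ DD (S : Subgroup G) R := by
  apply le_antisymm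
  · refine sSup_le fun P hP => ?_
    by_cases h1 : (S : Subgroup G) ⊓ centralizer (R : Set G) ≤ o2 P
    · exact le_trans (show P ≤ LL (S : Subgroup G) R from le_sSup ⟨hP, h1⟩) le_sup_left
    · rw [← h.act_of hP h1]
      exact sup_le ((le_inf (inf_le_left.trans (le_YS hP)) inf_le_right).trans le_sup_right)
        (h.S_le_LL.trans le_sup_left)
  · exact sup_le LL_le_ys inf_le_left

/-- **`V* = ⟨V_L^D⟩`** -/
theorem Vstar_eq_V : zl (S : Subgroup G) (YS S) =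
    NoFF.Basic.V (zl (S : Subgroup G) (LL (S : Subgroup G) R)) (DD (S : Subgroup G) R) := by
  apply le_antisymm
  · refine zl_le ((zc_le_zl _ _).trans (RZ.Z_le _ _)) ?_
    rw [h.ys_eq]
    exact sup_le (norm_V_of (le_normalizer_zl _ _) (LL_le_ys.trans h.ysD)) (le_norm_V _ _)
  · exact V_le_of VL_le (inf_le_left.trans (le_normalizer_zl _ _))

omit h [Finite G] in
theorem BB_le : BB (S : Subgroup G) R ≤ zl (S : Subgroup G) (YS S) :=
  by
  rw [BB, commutator_le]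
  intro v hv d hd
  have e : ⁅v, d⁆ = v * (d * v⁻¹ * d⁻¹) := by rw [commutatorElement_def]; group
  rw [e]
  exact mul_mem hv ((mem_normalizer_iff.1 (le_normalizer_zl _ _ (DD_le hd)) _).1 (Subgroup.inv_mem _ hv))

theorem ysB : YS (S : Subgroup G) ≤ normalizer (BB (S : Subgroup G) R : Set G) :=
  norm_commutator_of (le_normalizer_zl _ _) h.ysD

/-- for `z ∈ Z` there is `t ∈ Z₀` with `z⁻¹ t ∈ B` -/
theorem exists_tr {z : G} (hz : z ∈ zc (S : Subgroup G)) : ∃ t ∈ Z₀, z⁻¹ * t ∈ BB (S : Subgroup G) R := by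
  have hzV : z ∈ zl (S : Subgroup G) (YS S) := zc_le_zl _ _ hz
  have hXn : DD (S : Subgroup G) R ⊔ (S : Subgroup G) ≤ YS (S : Subgroup G) := sup_le DD_le h.S_le_ys
  obtain ⟨t, htV, hfix, hB⟩ := Trace.trace (V := zl (S : Subgroup G) (YS S))
    (X := DD (S : Subgroup G) R ⊔ (S : Subgroup G)) (S := (S : Subgroup G)) (B := BB (S : Subgroup G) R)
    (hXn.trans (le_normalizer_zl _ _)) h.VsC h.VsSq (Trace.odd_relIndex S le_sup_right) hzV
    (fun s hs => (mem_zc.1 hz).2.1 s hs) (by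
      intro x hx
      have hx' : x ∈ (DD (S : Subgroup G) R : Set G) * ((S : Subgroup G) : Set G) := by
        have h5 := Subgroup.coe_mul_of_right_le_normalizer_left (DD (S : Subgroup G) R) (S : Subgroup G)
          (h.S_le_ys.trans h.ysD)
        rw [← h5] at *
        exact hx
      obtain ⟨d, hd, s, hs, rfl⟩ := hx'
      have e1 : s * z = z * s := (mem_zc.1 hz).2.1 s hs
      have e : d * s * z * (d * s)⁻¹ * z⁻¹ = (z * (d * z⁻¹ * d⁻¹))⁻¹ := by
        calc d * s * z * (d * s)⁻¹ * z⁻¹ = d * (s * z) * s⁻¹ * d⁻¹ * z⁻¹ := by group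
          _ = d * (z * s) * s⁻¹ * d⁻¹ * z⁻¹ := by rw [e1]
          _ = (z * (d * z⁻¹ * d⁻¹))⁻¹ := by group
      change d * s * z * (d * s)⁻¹ * z⁻¹ ∈ _
      rw [e]
      refine inv_mem ?_
      have h3 : ⁅z, d⁆ ∈ BB (S : Subgroup G) R := commutator_mem_commutator hzV hd
      have e3 : ⁅z, d⁆ = z * (d * z⁻¹ * d⁻¹) := by rw [commutatorElement_def]; group
      rwa [e3] at h3)
  refine ⟨t, ?_, hB⟩
  rw [← h.fixD]
  have hc : ∀ x ∈ DD (S : Subgroup G) R ⊔ (S : Subgroup G), x * t = t * x := fun x hx =>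
    mul_inv_eq_iff_eq_mul.1 (hfix x hx)
  refine ⟨h.VsFix htV fun s hs => hc s (le_sup_right (a := DD (S : Subgroup G) R) hs), ?_⟩
  exact mem_centralizer_iff.2 fun d hd => hc d (le_sup_left (b := (S : Subgroup G)) hd)

/-- **`Z = (B ∩ Z) Z₀`** -/
theorem zc_eq : zc (S : Subgroup G) = (BB (S : Subgroup G) R ⊓ zc (S : Subgroup G)) ⊔ Z₀ := by
  apply le_antisymm
  · intro z hz
    obtain ⟨t, ht, hB⟩ := h.exists_tr hz
    have h1 : z⁻¹ * t ∈ BB (S : Subgroup G) R ⊓ zc (S : Subgroup G) :=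
      ⟨hB, mul_mem (Subgroup.inv_mem _ hz) (h.Z_le_zc ht)⟩
    have e : z = t * (z⁻¹ * t)⁻¹ := by group
    rw [e]
    exact mul_mem (mem_sup_right ht) (mem_sup_left (inv_mem h1))
  · exact sup_le inf_le_right h.Z_le_zc

/-- **`V* = B R`** -/
theorem Vstar_eq : zl (S : Subgroup G) (YS S) = BB (S : Subgroup G) R ⊔ R := by
  apply le_antisymm
  · refine zl_le ?_ (le_normalizer_sup h.ysB h.ys)
    rw [h.zc_eq]
    exact sup_le_sup inf_le_left h.Z_le
  · exact sup_le BB_le h.le_zl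

/-- **`B = ⟨(B ∩ Z)^Y⟩`** -/
theorem genB : BB (S : Subgroup G) R =
    NoFF.Basic.V (BB (S : Subgroup G) R ⊓ zc (S : Subgroup G)) (YS (S : Subgroup G)) := by
  set B' : Subgroup G := NoFF.Basic.V (BB (S : Subgroup G) R ⊓ zc (S : Subgroup G)) (YS (S : Subgroup G)) with hB'
  have h1 : YS (S : Subgroup G) ≤ normalizer (B' : Set G) := le_norm_V _ _
  have hB'V : B' ≤ zl (S : Subgroup G) (YS S) :=
    V_le_of (inf_le_right.trans (zc_le_zl _ _)) (le_normalizer_zl _ _)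
  apply le_antisymm
  · have h2 : zl (S : Subgroup G) (YS S) ≤ B' ⊔ R := by
      refine zl_le ?_ (le_normalizer_sup h1 h.ys)
      conv_lhs => rw [h.zc_eq]
      exact sup_le_sup (RZ.Z_le _ _) h.Z_le
    have hc : R ≤ centralizer (B' : Set G) := (h.le_zl.trans h.VsC).trans (centralizer_le hB'V)
    rw [BB, commutator_le]
    intro v hv d hd
    have hv' : v ∈ (B' : Set G) * (R : Set G) := by
      rw [← Cfsg.Agent.PLocal.ElemAbSup.coe_sup_of_le_centralizer hc]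
      exact h2 hv
    obtain ⟨b, hb, r, hr, rfl⟩ := hv'
    have e1 : r * d = d * r := (mem_centralizer_iff.1 (DD_cent hd) r hr)
    have e : ⁅b * r, d⁆ = b * (d * b⁻¹ * d⁻¹) := by
      rw [commutatorElement_def]
      calc b * r * d * (b * r)⁻¹ * d⁻¹ = b * (r * d) * r⁻¹ * b⁻¹ * d⁻¹ := by group
        _ = b * (d * r) * r⁻¹ * b⁻¹ * d⁻¹ := by rw [e1]
        _ = b * (d * b⁻¹ * d⁻¹) := by group
    change ⁅b * r, d⁆ ∈ B'
    rw [e]
    exact mul_mem hb ((mem_normalizer_iff.1 (h1 (DD_le hd)) _).1 (inv_mem hb))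
  · exact V_le_of inf_le_left h.ysB

theorem nSD : normalizer ((S : Subgroup G) : Set G) ≤ normalizer (DD (S : Subgroup G) R : Set G) := by
  intro n hn
  rw [mem_normalizer_iff_cj, DD, cj_inf, cj_eq_of_mem_normalizer (Frm.nS_ys hn), cj_centralizer,
    cj_eq_of_mem_normalizer (h.nS hn)]

/-- `N_G(S) ≤ N_G(B)` -/
theorem nSB : normalizer ((S : Subgroup G) : Set G) ≤ normalizer (BB (S : Subgroup G) R : Set G) :=
  norm_commutator_of Frm.nS_Vs h.nSD

/-- A `P ∈ P*(S)` which centralises `B ∩ Z` lies in `L`. -/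
theorem le_LL_of {P : Subgroup G} (hP : IsParS (S : Subgroup G) P)
    (h1 : P ≤ centralizer ((BB (S : Subgroup G) R ⊓ zc (S : Subgroup G) : Subgroup G) : Set G)) :
    (S : Subgroup G) ⊓ centralizer (R : Set G) ≤ o2 P := by
  by_contra h2
  have h3 := h.cent_of hP h2
  refine hP.not_zc ?_
  have h4 : zc (S : Subgroup G) ≤ centralizer (P : Set G) := by
    rw [h.zc_eq]
    exact sup_le (cent_symm h1) (cent_symm h3)
  exact (cent_symm h4).trans (centralizer_le_normalizer _)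

/-- `B ∩ R = 1` iff `B ∩ Z₀ = 1`. -/
theorem spl_iff : BB (S : Subgroup G) R ⊓ R = ⊥ ↔ BB (S : Subgroup G) R ⊓ Z₀ = ⊥ := by
  constructor
  · intro h1
    exact le_bot_iff.1 (h1 ▸ inf_le_inf_left _ h.Z_le)
  · intro h1
    by_contra hne
    have hn : (S : Subgroup G) ≤ normalizer ((BB (S : Subgroup G) R ⊓ R : Subgroup G) : Set G) := by
      intro s hs
      rw [mem_normalizer_iff_cj, cj_inf, cj_eq_of_mem_normalizer (h.ysB (h.S_le_ys hs)),
        cj_eq_of_mem_normalizer (h.S_le hs)]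
    obtain ⟨z, hz, hz1, hzT⟩ := NOThreeL.AdjTransv.exists_fixed S.isPGroup' hne
      (fun n hn => by rw [← pow_two]; exact h.sqR n hn.2) fun s hs n hn' => (mem_normalizer_iff.1 (hn hs) n).1 hn'
    have h2 : z ∈ Z₀ := h.fix hz.2 fun s hs => (mul_inv_eq_iff_eq_mul.1 (hzT s hs)).symm
    have h3 : z ∈ BB (S : Subgroup G) R ⊓ Z₀ := ⟨hz.1, h2⟩
    rw [h1, mem_bot] at h3
    exact hz1 h3

/-- (*) -/
theorem cent_of_mul (hs : BB (S : Subgroup G) R ⊓ R = ⊥) {p b r : G} (hp : p ∈ YS (S : Subgroup G))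
    (hb : b ∈ BB (S : Subgroup G) R) (hr : r ∈ R) (hpb : p * (b * r) = b * r * p) :
    p * b = b * p ∧ p * r = r * p := by
  have h1 : p * b * p⁻¹ ∈ BB (S : Subgroup G) R := (mem_normalizer_iff.1 (h.ysB hp) b).1 hb
  have h2 : p * r * p⁻¹ ∈ R := (mem_normalizer_iff.1 (h.ys hp) r).1 hr
  have e : b⁻¹ * (p * b * p⁻¹) = r * (p * r * p⁻¹)⁻¹ := by
    have e1 : p * b * p⁻¹ * (p * r * p⁻¹) = b * r := by
      calc p * b * p⁻¹ * (p * r * p⁻¹) = p * (b * r) * p⁻¹ := by group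
        _ = b * r * p * p⁻¹ := by rw [hpb]
        _ = b * r := by group
    calc b⁻¹ * (p * b * p⁻¹) = b⁻¹ * (p * b * p⁻¹ * (p * r * p⁻¹)) * (p * r * p⁻¹)⁻¹ := by group
      _ = b⁻¹ * (b * r) * (p * r * p⁻¹)⁻¹ := by rw [e1]
      _ = r * (p * r * p⁻¹)⁻¹ := by group
  have h3 : b⁻¹ * (p * b * p⁻¹) ∈ BB (S : Subgroup G) R ⊓ R :=
    ⟨mul_mem (Subgroup.inv_mem _ hb) h1, by rw [e]; exact mul_mem hr (Subgroup.inv_mem _ h2)⟩
  rw [hs, mem_bot] at h3
  have h4 : p * b * p⁻¹ = b := (inv_mul_eq_one.1 h3).symm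
  have h5 : p * r * p⁻¹ = r := by
    rw [h3] at e
    exact (mul_inv_eq_one.1 e.symm).symm
  exact ⟨mul_inv_eq_iff_eq_mul.1 h4, mul_inv_eq_iff_eq_mul.1 h5⟩

/-- `⟨Z^L⟩ ≤ V` -/
theorem VL_le_V : zl (S : Subgroup G) (LL (S : Subgroup G) R) ≤ V :=
  zl_le h.ZV (sSup_le fun P hP => h.lV P hP.1 hP.2)

/-- `L ≤ N_G(V)` -/
theorem LL_norm_V : LL (S : Subgroup G) R ≤ normalizer (V : Set G) := sSup_le fun P hP => h.lV P hP.1 hP.2

/-- `V* ≤ ⟨V^D⟩` -/
theorem Vstar_le : zl (S : Subgroup G) (YS S) ≤ NoFF.Basic.V V (DD (S : Subgroup G) R) := by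
  rw [h.Vstar_eq_V]
  exact V_mono h.VL_le_V le_rfl

end FrmV

/-- `N_G(S)` normalises `L = LL S R`. -/
theorem nS_LL [Finite G] {S : Sylow 2 G} {R : Subgroup G}
    (hR : normalizer ((S : Subgroup G) : Set G) ≤ normalizer (R : Set G)) :
    normalizer ((S : Subgroup G) : Set G) ≤ normalizer (LL (S : Subgroup G) R : Set G) := by
  have h1 : ∀ n ∈ normalizer ((S : Subgroup G) : Set G), cj n (LL (S : Subgroup G) R) ≤ LL (S : Subgroup G) R := by
    intro n hn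
    rw [cj, map_le_iff_le_comap]
    refine sSup_le fun P hP => ?_
    rw [← map_le_iff_le_comap]
    refine le_sSup ⟨(FrameNOFF.inv S).nF n hn P hP.1, ?_⟩
    have h2 := cj_mono n hP.2
    rw [cj_inf, cj_centralizer, cj_eq_of_mem_normalizer hn, cj_eq_of_mem_normalizer (hR hn)] at h2
    exact h2.trans (MinSimple.Geo.cj_o2 n P).le
  intro n hn
  rw [mem_normalizer_iff_cj]
  refine le_antisymm (h1 n hn) ?_
  have h2 := cj_mono n (h1 n⁻¹ (inv_mem hn))
  rwa [cj_cj_inv] at h2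

/-- **[R-z]: `Frm S Z₀ R` gives `FrmV S Z₀ R ⟨Z^L⟩`.** -/
theorem Frm.toV [Finite G] {S : Sylow 2 G} {Z₀ R : Subgroup G} (h : Frm S Z₀ R) :
    FrmV S Z₀ R (zl (S : Subgroup G) (LL (S : Subgroup G) R)) where
  ctx := h.ctx
  full := h.full
  data := h.data
  notA := h.notA
  eq := h.eq
  ne := h.ne
  ys := h.ys
  gen := h.gen
  nn := h.nnL
  ZV := zc_le_zl _ _
  RV := h.R_le_VL
  nS := h.nS
  nSV := norm_V_of (normalizer_le_normalizer_zc _) (nS_LL h.nS)
  lV := fun P hP h1 => (show P ≤ LL (S : Subgroup G) R from le_sSup ⟨hP, h1⟩).trans (le_normalizer_zl _ _)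
  fixD := h.fixD

end Cfsg.Agent.Omega.NOThreeL.RZ
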