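import Cfsg.Agent.Omega.NOThreeL.RZ.Frame

/-!
# NO-3L, box R, case [R-z]: the trace (helper241 #24537 (0); helper616 #24761)

`trace` : `V` elementary abelian, `S ≤ X ≤ N(V)`, `|X : S|` odd, `z ∈ V` is centralised by `S`: some `t ∈ z B` is
centralised by `X`, if `B ≤ V` contains all `[x, z]`, `x ∈ X`.
-/

set_option autoImplicit false

namespace Cfsg.Agent.Omega.NOThreeL.RZ.Trace

open Subgroup Cfsg

universe u

variable {G : Type u} [Group G] [Finite G]

theorem trace {V X S B : Subgroup G} (hX : X ≤ normalizer (V : Set G)) (hab : V ≤ centralizer (V : Set G))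
    (hsq : ∀ v ∈ V, v ^ 2 = 1) (hodd : Odd (S.relIndex X)) {z : G} (hz : z ∈ V)
    (hzS : ∀ s ∈ S, s * z = z * s) (hXB : ∀ x ∈ X, x * z * x⁻¹ * z⁻¹ ∈ B) :
    ∃ t ∈ V, (∀ x ∈ X, x * t * x⁻¹ = t) ∧ z⁻¹ * t ∈ B := by
  classical
  have hcj : ∀ x ∈ X, ∀ v ∈ V, x * v * x⁻¹ ∈ V := fun x hx v hv => (mem_normalizer_iff.1 (hX hx) v).1 hv
  letI iC : CommGroup V := { (inferInstance : Group V) with
    mul_comm := fun a b => Subtype.ext (mem_centralizer_iff.1 (hab b.2) a.1 a.2) }
  set S' : Subgroup X := S.subgroupOf X with hS'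
  letI : Fintype (X ⧸ S') := Fintype.ofFinite _
  let f : X ⧸ S' → V := Quotient.lift (fun x : X => (⟨(x : G) * z * (x : G)⁻¹, hcj x x.2 z hz⟩ : V)) (by
    intro a b hab'
    have h1 : a⁻¹ * b ∈ S' := QuotientGroup.leftRel_apply.1 hab'
    have h2 : (a : G)⁻¹ * b ∈ S := by
      rw [hS', mem_subgroupOf] at h1
      simpa using h1
    have h3 := hzS _ h2
    apply Subtype.ext
    change (a : G) * z * (a : G)⁻¹ = (b : G) * z * (b : G)⁻¹
    have e : (b : G) * z * (b : G)⁻¹ = a * (((a : G)⁻¹ * b) * z) * (b : G)⁻¹ := by group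
    rw [e, h3]
    group)
  have hf : ∀ x : X, f (QuotientGroup.mk x) = ⟨(x : G) * z * (x : G)⁻¹, hcj x x.2 z hz⟩ := fun _ => rfl
  let t : V := ∏ q : X ⧸ S', f q
  refine ⟨t, t.2, ?_, ?_⟩
  · intro x hx
    let φ : V →* V :=
      { toFun := fun v => ⟨x * v * x⁻¹, hcj x hx v v.2⟩
        map_one' := Subtype.ext (by simp)
        map_mul' := fun a b => Subtype.ext (by
          change x * ((a : G) * b) * x⁻¹ = (x * a * x⁻¹) * (x * b * x⁻¹)
          group) }
    have h1 : φ t = t := by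
      change φ (∏ q : X ⧸ S', f q) = ∏ q : X ⧸ S', f q
      rw [map_prod]
      refine Fintype.prod_equiv (MulAction.toPerm (⟨x, hx⟩ : X)) _ _ fun q => ?_
      induction q using QuotientGroup.induction_on with
      | H y =>
        change φ (f (QuotientGroup.mk y)) = f (QuotientGroup.mk ((⟨x, hx⟩ : X) * y))
        rw [hf, hf]
        apply Subtype.ext
        change x * ((y : G) * z * (y : G)⁻¹) * x⁻¹ = (x * y) * z * (x * y : G)⁻¹
        group
    exact congrArg Subtype.val h1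
  · have hcomm : ∀ a b : G, a ∈ V → b ∈ V → a * b = b * a := fun a b ha hb => mem_centralizer_iff.1 (hab hb) a ha
    let B' : Subgroup V := B.subgroupOf V
    have hπ : ∀ q : X ⧸ S', (QuotientGroup.mk (f q) : V ⧸ B') = QuotientGroup.mk ⟨z, hz⟩ := by
      intro q
      induction q using QuotientGroup.induction_on with
      | H y =>
        rw [hf, eq_comm, QuotientGroup.eq]
        rw [show B' = B.subgroupOf V from rfl, mem_subgroupOf]
        change z⁻¹ * ((y : G) * z * (y : G)⁻¹) ∈ B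
        rw [hcomm _ _ (V.inv_mem hz) (hcj y y.2 z hz)]
        exact hXB y y.2
    have h2 : (QuotientGroup.mk t : V ⧸ B') = QuotientGroup.mk ⟨z, hz⟩ := by
      have h3 : (QuotientGroup.mk t : V ⧸ B') = ∏ q : X ⧸ S', (QuotientGroup.mk (f q) : V ⧸ B') :=
        map_prod (QuotientGroup.mk' B') f Finset.univ
      rw [h3, Finset.prod_congr rfl fun q _ => hπ q, Finset.prod_const, ← QuotientGroup.mk_pow]
      have h4 : (⟨z, hz⟩ : V) ^ (Finset.univ : Finset (X ⧸ S')).card = ⟨z, hz⟩ := by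
        rw [Finset.card_univ, ← Nat.card_eq_fintype_card]
        have h5 : Nat.card (X ⧸ S') = S.relIndex X := rfl
        rw [h5]
        obtain ⟨n, hn⟩ := hodd
        rw [hn, pow_add, pow_mul, pow_one]
        have h6 : (⟨z, hz⟩ : V) ^ 2 = 1 := Subtype.ext (hsq z hz)
        rw [h6, one_pow, one_mul]
      rw [h4]
    have h3 := QuotientGroup.eq.1 h2.symm
    exact (mem_subgroupOf.1 h3 : _)

theorem odd_relIndex (S : Sylow 2 G) {X : Subgroup G} (hX : (S : Subgroup G) ≤ X) :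
    Odd ((S : Subgroup G).relIndex X) := by
  have h2 : Fact (Nat.Prime 2) := ⟨Nat.prime_two⟩
  have h1 := Subgroup.relIndex_mul_index hX
  have h3 : ¬ 2 ∣ (S : Subgroup G).index := S.not_dvd_index
  rw [← Nat.not_even_iff_odd, even_iff_two_dvd]
  intro h4
  exact h3 (h1 ▸ (dvd_mul_of_dvd_left h4 _))

end Cfsg.Agent.Omega.NOThreeL.RZ.Trace
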